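import Cfsg.Agent.WeakClosureJ.Factor
import Cfsg.Agent.Fus.Centric
import Cfsg.Agent.FusModel.Local
import Cfsg.Agent.Fusion.Alperin.Theorem
import Cfsg.Agent.Eq.Def_PLocal

/-!
A saturated fusion system is generated by the centraliser system of the subgroup generated by the `p`-th
powers of `Z(S)` and the normaliser system of `J(S)`.
-/

set_option autoImplicit false

namespace CfsgLib.FusGenerate

open Cfsg Cfsg.FusionSystem CfsgLib.Fus CfsgLib.WeakClosureJ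

universe u

variable {Ω : Type u} [Group Ω] {S : Subgroup Ω}

theorem map_subgroupOf_range {P Q : Subgroup Ω} (φ : P →* Ω) (hQ : Q ≤ P) :
    (φ.comp (Subgroup.inclusion hQ)).range = (Q.subgroupOf P).map φ := by
  ext z
  constructor
  · rintro ⟨x, rfl⟩
    exact ⟨Subgroup.inclusion hQ x, x.2, rfl⟩
  · rintro ⟨x, hx, rfl⟩
    exact ⟨⟨x, hx⟩, rfl⟩

theorem abJ_subgroupOf {P Q : Subgroup Ω} (h : Q ≤ P) :
    (abJ Q).subgroupOf P = abJ (Q.subgroupOf P) := by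
  conv_lhs => rw [← Subgroup.map_subgroupOf_eq_of_le h, abJ_map _ P.subtype_injective]
  exact Subgroup.comap_map_eq_self_of_injective P.subtype_injective _

/-- `abJ` is natural for injective maps on subgroups. -/
theorem abJ_map_subgroupOf {G : Type*} [Group G] {P Q : Subgroup Ω} (φ : P →* G)
    (hφ : Function.Injective φ) (h : Q ≤ P) :
    abJ ((Q.subgroupOf P).map φ) = ((abJ Q).subgroupOf P).map φ := by
  rw [abJ_map φ hφ, abJ_subgroupOf h]

theorem subgroupOf_self_map {G : Type*} [Group G] {P : Subgroup Ω} (φ : P →* G) :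
    (P.subgroupOf P).map φ = φ.range := by
  rw [Subgroup.subgroupOf_self, MonoidHom.range_eq_map]

theorem le_normalizer_abJ' (Q : Subgroup Ω) :
    Subgroup.normalizer (Q : Set Ω) ≤ Subgroup.normalizer (abJ Q : Set Ω) := by
  intro g hg
  refine Subgroup.mem_normalizer_iff_map_conj_eq.2 ?_
  show (abJ Q).map (MulAut.conj g).toMonoidHom = abJ Q
  rw [← abJ_map _ (MulAut.conj g).injective]
  exact congrArg _ (Subgroup.mem_normalizer_iff_map_conj_eq.1 hg)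

theorem mem_abJ_of_central' [Finite S] {Q : Subgroup Ω} (hQ : Q ≤ S) {z : Ω} (hz : z ∈ Q)
    (hc : ∀ t ∈ Q, t * z = z * t) : z ∈ abJ Q := by
  have h : (⟨z, hQ hz⟩ : S) ∈ (abJ Q).subgroupOf S := by
    rw [abJ_subgroupOf hQ]
    exact mem_abJ_of_central hz fun t ht => Subtype.ext (hc t ht)
  exact h

variable [Finite S] {p : ℕ} [Fact p.Prime]

/-- A conjugate of `J` with both it and its product with its centralizer fully normalised, reached by a map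
of the normaliser. -/
theorem exists_good_conj (hS : IsPGroup p S) {F : Cfsg.FusionSystem S} (hF : F.IsSaturated p)
    {J : Subgroup Ω} (hJ : J ≤ S) :
    ∃ J' : Subgroup Ω, F.IsFullyNormalized J' ∧
      F.IsFullyNormalized (J' ⊔ centralizerIn S J') ∧
      ∃ ψ ∈ F.Hom (normalizerIn S J), (J.subgroupOf (normalizerIn S J)).map ψ = J' := by
  obtain ⟨J₁, hJJ₁, hJ₁⟩ := exists_fullyNormalized F hJ
  obtain ⟨φ₁, hφ₁, hr₁, ψ₁, hψ₁, hext₁⟩ := exists_normalizer_map_fn hS hF hJ₁ hJJ₁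
  set R₁ := J₁ ⊔ centralizerIn S J₁ with hR₁
  have hR₁S : R₁ ≤ S := sup_le hJ₁.1 (centralizerIn_le J₁)
  obtain ⟨R₂, hR₁R₂, hR₂⟩ := exists_fullyNormalized F hR₁S
  obtain ⟨φ₂, hφ₂, hr₂, ψ₂, hψ₂, hext₂⟩ := exists_normalizer_map_fn hS hF hR₂ hR₁R₂
  have hNN : normalizerIn S J₁ ≤ normalizerIn S R₁ := by
    intro g hg
    refine ⟨hg.1, Subgroup.mem_normalizer_iff_map_conj_eq.2 ?_⟩
    show R₁.map (MulAut.conj g).toMonoidHom = R₁
    rw [hR₁, Subgroup.map_sup]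
    congr 1
    · exact Subgroup.mem_normalizer_iff_map_conj_eq.1 hg.2
    · have key : ∀ g ∈ normalizerIn S J₁, ∀ c ∈ centralizerIn S J₁,
          g * c * g⁻¹ ∈ centralizerIn S J₁ := by
        intro g hg c hc
        refine ⟨S.mul_mem (S.mul_mem hg.1 hc.1) (S.inv_mem hg.1), fun x hx => ?_⟩
        have h1 : x * g * c = g * c * (g⁻¹ * x * g) := by
          have h2 := hc.2 _ ((Subgroup.mem_normalizer_iff''.1 hg.2 x).1 hx)
          calc x * g * c = g * ((g⁻¹ * x * g) * c) := by group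
            _ = g * (c * (g⁻¹ * x * g)) := by rw [h2]
            _ = g * c * (g⁻¹ * x * g) := by group
        calc x * (g * c * g⁻¹) = (x * g * c) * g⁻¹ := by group
          _ = g * c * g⁻¹ * x := by rw [h1]; group
      ext y
      constructor
      · rintro ⟨c, hc, rfl⟩
        exact key g hg c hc
      · intro hy
        exact ⟨g⁻¹ * y * g, by simpa using key g⁻¹ (inv_mem hg) y hy, by simp [mul_assoc]⟩
  -- the composite on `N_S(J)`
  have hJN : J ≤ normalizerIn S J := le_normalizerIn hJ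
  have hψ₁N : ∀ g, ψ₁ g ∈ normalizerIn S J₁ := fun g =>
    map_mem_normalizerIn hr₁ hψ₁ hJN (fun x => hext₁ x _) g.2.2
  have hmem : ∀ g, ψ₁ g ∈ normalizerIn S R₁ := fun g => hNN (hψ₁N g)
  obtain ⟨ψ, hψdef⟩ : ∃ ψ, ψ = ψ₂.comp (ψ₁.codRestrict _ hmem) := ⟨_, rfl⟩
  have hψ : ψ ∈ F.Hom (normalizerIn S J) := hψdef ▸ F.comp_mem hψ₁ hψ₂ hmem
  have hJ₁R : J₁ ≤ R₁ := le_sup_left
  have hJ₁N : J₁ ≤ normalizerIn S R₁ := (le_normalizerIn hJ₁.1).trans hNN
  set J' := (J₁.subgroupOf (normalizerIn S R₁)).map ψ₂ with hJ'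
  have hθ : ψ₂.comp (Subgroup.inclusion hJ₁N) ∈ F.Hom J₁ := restrict_mem F hψ₂ hJ₁N
  have hθr : (ψ₂.comp (Subgroup.inclusion hJ₁N)).range = J' := map_subgroupOf_range ψ₂ hJ₁N
  have hconj : F.IsConj J₁ J' := ⟨_, hθ, hθr⟩
  have hmap : (J.subgroupOf (normalizerIn S J)).map ψ = J' := by
    ext z
    constructor
    · rintro ⟨x, hx, rfl⟩
      rw [hψdef]
      exact ⟨_, show ψ₁ x ∈ J₁ by
        rw [← hr₁, hext₁ ⟨x, hx⟩ x.2]
        exact ⟨_, rfl⟩, rfl⟩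
    · rintro ⟨y, hy, rfl⟩
      obtain ⟨x, hx⟩ : (y : Ω) ∈ φ₁.range := by rw [hr₁]; exact hy
      refine ⟨⟨x, hJN x.2⟩, x.2, ?_⟩
      rw [hψdef]
      exact congrArg ψ₂ (Subtype.ext ((hext₁ x _).trans hx))
  have hJ'S : J' ≤ S := isConj_le_right hconj
  have hJ'fn : F.IsFullyNormalized J' := by
    refine ⟨hJ'S, fun Q hQ => (hJ₁.2 Q (isConj_trans hconj hQ)).trans ?_⟩
    haveI : Finite (normalizerIn S J') := finite_of_le (normalizerIn_le J')
    exact card_le_of_map_mem (F.injective_of_mem hψ₂) hNN fun g hg =>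
      map_mem_normalizerIn hθr hψ₂ hJ₁N (fun _ => rfl) hg.2
  have hR₂eq : R₂ = J' ⊔ centralizerIn S J' := by
    have hR₁N : R₁ ≤ normalizerIn S R₁ := le_normalizerIn hR₁S
    haveI : Finite (centralizerIn S J') := finite_of_le (centralizerIn_le J')
    have hcen : ∀ g : normalizerIn S R₁, (g : Ω) ∈ centralizerIn S J₁ → ψ₂ g ∈ centralizerIn S J' :=
      fun g hg => map_mem_centralizerIn hθr hψ₂ hJ₁N (fun _ => rfl) hg.2
    refine le_antisymm ?_ (sup_le ?_ ?_)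
    · intro z hz
      rw [← hr₂] at hz
      obtain ⟨x, rfl⟩ := hz
      rw [← hext₂ x (hR₁N x.2)]
      have hle : R₁ ≤ ((J' ⊔ centralizerIn S J').comap ψ₂).map (normalizerIn S R₁).subtype :=
        sup_le (fun y hy => ⟨⟨y, hJ₁N hy⟩, Subgroup.mem_sup_left ⟨_, hy, rfl⟩, rfl⟩)
          fun y hy => ⟨⟨y, hR₁N (Subgroup.mem_sup_right hy)⟩, Subgroup.mem_sup_right (hcen _ hy), rfl⟩
      obtain ⟨y, hy, hyx⟩ := hle x.2
      have e : y = ⟨x, hR₁N x.2⟩ := Subtype.ext hyx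
      exact e ▸ hy
    · rintro _ ⟨y, hy, rfl⟩
      rw [← hr₂, show ψ₂ y = φ₂ ⟨y, hJ₁R hy⟩ from hext₂ ⟨y, hJ₁R hy⟩ y.2]
      exact ⟨_, rfl⟩
    · intro c hc
      obtain ⟨g, hg, rfl⟩ := exists_preimage_of_card (F.injective_of_mem hψ₂)
        ((centralizerIn_le_normalizerIn J₁).trans hNN) hcen
        ((fullyCentralized_of_fullyNormalized hS hF hJ₁).2 J' hconj) hc
      rw [← hr₂, show ψ₂ g = φ₂ ⟨g, Subgroup.mem_sup_right hg⟩ from
        hext₂ ⟨g, Subgroup.mem_sup_right hg⟩ g.2]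
      exact ⟨_, rfl⟩
  exact ⟨J', hJ'fn, hR₂eq ▸ hR₂, ψ, hψ, hmap⟩

/-- `V`: the subgroup generated by the `p`-th powers of the elements of `Z(S)`. -/
abbrev agemoCenter (p : ℕ) (S : Subgroup Ω) : Subgroup Ω :=
  powerClosure p 1 (S ⊓ Subgroup.centralizer (S : Set Ω))

omit [Finite S] [Fact p.Prime] in
theorem agemoCenter_le : agemoCenter p S ≤ S ⊓ Subgroup.centralizer (S : Set Ω) := by
  refine (Subgroup.closure_le _).2 ?_
  rintro _ ⟨x, hx, rfl⟩
  exact pow_mem hx _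

/-- The hypotheses: `E` contains the maps fixing `V` and those normalising `J(S)`. -/
structure GenHyp (p : ℕ) (F E : Cfsg.FusionSystem S) : Prop where
  cent : ∀ {P : Subgroup Ω} {φ : P →* Ω}, φ ∈ F.Hom P → agemoCenter p S ≤ P →
    (∀ x : P, (x : Ω) ∈ agemoCenter p S → φ x = x) → φ ∈ E.Hom P
  norm : ∀ {P : Subgroup Ω} {φ : P →* Ω}, φ ∈ F.Hom P → abJ S ≤ P →
    ((abJ S).subgroupOf P).map φ = abJ S → φ ∈ E.Hom P

/-- The main step: an automorphism of a centric `Q` whose `J(Q)` and `J(Q)C_S(J(Q))` are fully normalised. -/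
theorem aut_mem (hS : IsPGroup p S) {F E : Cfsg.FusionSystem S} (hF : F.IsSaturated p)
    (hE : GenHyp p F E) {Q : Subgroup Ω} (hQ : F.IsCentric Q)
    (hJn : F.IsFullyNormalized (abJ Q))
    (hRn : F.IsFullyNormalized (abJ Q ⊔ centralizerIn S (abJ Q)))
    (big : ∀ {D : Subgroup Ω} {ψ : D →* Ω}, ψ ∈ F.Hom D → Nat.card Q < Nat.card D → ψ ∈ E.Hom D)
    {φ : Q →* Ω} (hφ : φ ∈ F.Hom Q) (hr : φ.range = Q) : φ ∈ E.Hom Q := by
  classical
  set J := abJ Q with hJ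
  set Z := S ⊓ Subgroup.centralizer (S : Set Ω) with hZ
  have hQS : Q ≤ S := hQ.1
  have hJQ : J ≤ Q := abJ_le Q
  have hJS : J ≤ S := hJQ.trans hQS
  have hZJ : Z ≤ J := by
    intro z hz
    have hzQ : z ∈ Q := centralizerIn_le_of_centric hQ ⟨hz.1, fun x hx => hz.2 x (hQS hx)⟩
    exact mem_abJ_of_central' hQS hzQ fun t ht => hz.2 t (hQS ht)
  have hVJ : agemoCenter p S ≤ J := agemoCenter_le.trans hZJ
  have hQN : Q ≤ normalizerIn S J := fun x hx =>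
    ⟨hQS hx, le_normalizer_abJ' Q (Subgroup.le_normalizer hx)⟩
  have hφJ : (J.subgroupOf Q).map φ = J := by
    rw [hJ, ← abJ_map_subgroupOf φ (F.injective_of_mem hφ) le_rfl, subgroupOf_self_map, hr]
  have hφQ : ∀ x : Q, φ x ∈ Q := fun x => hr.le ⟨x, rfl⟩
  by_cases hC : centralizerIn S J ≤ Q
  swap
  · -- the restriction to `J` extends beyond `Q`
    have hβ : φ.comp (Subgroup.inclusion hJQ) ∈ F.Hom J := restrict_mem F hφ hJQ
    have hβr : (φ.comp (Subgroup.inclusion hJQ)).range = J := (map_subgroupOf_range φ hJQ).trans hφJ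
    have hQext : Q ≤ Cfsg.FusionSystem.extender S J (φ.comp (Subgroup.inclusion hJQ)) := by
      intro g hg
      refine mem_extender_iff.2 ⟨hQS hg, (hQN hg).2, φ ⟨g, hg⟩, hQS (hφQ _), fun x hx => ?_⟩
      show φ ⟨g * x * g⁻¹, _⟩ = φ ⟨g, hg⟩ * φ (Subgroup.inclusion hJQ x) * (φ ⟨g, hg⟩)⁻¹
      rw [← map_inv, ← map_mul, ← map_mul]
      rfl
    obtain ⟨ψ, hψ, hψe⟩ :=
      (fullyNormalized_props hS hF hJn).2.2 J _ hβ hβr
    obtain ⟨c, hc, hcQ⟩ := SetLike.not_le_iff_exists.1 hC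
    have hψE : ψ ∈ E.Hom _ := big hψ
      (Fusion.Alperin.card_lt_of_le_of_mem (extender_le_normalizerIn.trans (normalizerIn_le J)) hQext
        (centralizerIn_le_extender hc) hcQ)
    set φ₂ := ψ.comp (Subgroup.inclusion hQext) with hφ₂
    have hφ₂E : φ₂ ∈ E.Hom Q := restrict_mem E hψE hQext
    have hφ₂F : φ₂ ∈ F.Hom Q := restrict_mem F hψ hQext
    obtain ⟨ι₂, hι₂, hι₂r, hι₂φ, -⟩ := exists_inv F hφ₂F rfl
    have hmem : ∀ y, ι₂ y ∈ Q := fun y => hι₂r.le ⟨y, rfl⟩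
    have hδ : φ.comp (ι₂.codRestrict Q hmem) ∈ F.Hom φ₂.range := F.comp_mem hι₂ hφ hmem
    have hJr : ∀ z ∈ J, ∃ x : Q, (x : Ω) ∈ J ∧ φ₂ x = z ∧ φ x = z := by
      intro z hz
      obtain ⟨x, hx, rfl⟩ := hφJ.ge hz
      exact ⟨x, hx, hψe x hx (hQext x.2), rfl⟩
    have hδE : φ.comp (ι₂.codRestrict Q hmem) ∈ E.Hom φ₂.range := by
      refine hE.cent hδ (fun z hz => ?_) fun y hy => ?_
      · obtain ⟨x, -, hx, -⟩ := hJr z (hVJ hz)
        exact ⟨x, hx⟩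
      · obtain ⟨x, hx, h2, h1⟩ := hJr y (hVJ hy)
        show φ ⟨ι₂ y, hmem y⟩ = y
        rw [← h1]
        congr 1
        refine Subtype.ext ?_
        show ι₂ y = x
        rw [← hι₂φ x ⟨x, rfl⟩]
        exact congrArg ι₂ (Subtype.ext h2.symm)
    refine hom_of_comp E hφ₂E hδE (fun x => ⟨x, rfl⟩) fun x => ?_
    show φ x = φ ⟨ι₂ ⟨φ₂ x, _⟩, _⟩
    exact congrArg φ (Subtype.ext (hι₂φ x _).symm)
  -- the local model
  set R := J ⊔ centralizerIn S J with hR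
  have hRQ : R ≤ Q := sup_le hJQ hC
  have hRc : F.IsCentric R := by
    refine isCentric_of_fullyCentralized (fullyCentralized_of_fullyNormalized hS hF hRn) ?_
    exact (centralizerIn_antitone le_sup_left).trans le_sup_right
  set NR := normalizerIn S R with hNR
  set NJ := normalizerIn S J with hNJ
  obtain ⟨L, _, ι, hmodel⟩ : ∃ (L : Type u) (_ : Group L) (ι : NR →* L),
      (normalizerSystem F R hRn.1).IsModel p L ι := CfsgLib.FusModel.exists_local_model hS hF hRn hRc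
  obtain ⟨hfin, ⟨hinj, hreal⟩, ⟨P0, hP0⟩, -⟩ := hmodel
  haveI := hfin
  have hcn : ∀ g ∈ NJ, ∀ c ∈ centralizerIn S J, g * c * g⁻¹ ∈ centralizerIn S J := by
    intro g hg c hc
    refine ⟨S.mul_mem (S.mul_mem hg.1 hc.1) (S.inv_mem hg.1), fun x hx => ?_⟩
    have h2 := hc.2 _ ((Subgroup.mem_normalizer_iff''.1 hg.2 x).1 hx)
    calc x * (g * c * g⁻¹) = g * ((g⁻¹ * x * g) * c) * g⁻¹ := by group
      _ = g * (c * (g⁻¹ * x * g)) * g⁻¹ := by rw [h2]
      _ = g * c * g⁻¹ * x := by group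
  have hNN : NJ ≤ NR := by
    intro g hg
    refine ⟨hg.1, Subgroup.mem_normalizer_iff_map_conj_eq.2 ?_⟩
    show R.map (MulAut.conj g).toMonoidHom = R
    rw [hR, Subgroup.map_sup]
    congr 1
    · exact Subgroup.mem_normalizer_iff_map_conj_eq.1 hg.2
    · ext y
      constructor
      · rintro ⟨c, hc, rfl⟩
        exact hcn g hg c hc
      · intro hy
        exact ⟨g⁻¹ * y * g, by simpa using hcn g⁻¹ (inv_mem hg) y hy, by simp [mul_assoc]⟩
  have hJNJ : J ≤ NJ := le_normalizerIn hJS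
  have hJNR : J ≤ NR := hJNJ.trans hNN
  have hQNR : Q ≤ NR := hQN.trans hNN
  have hFhom : ∀ {D : Subgroup Ω} (hD : D ≤ NR) (χ : D →* Ω) (hχ : ∀ x, χ x ∈ NR) (l : L),
      (∀ x : D, ι ⟨χ x, hχ x⟩ = l * ι ⟨x, hD x.2⟩ * l⁻¹) → χ ∈ F.Hom D :=
    fun hD χ hχ l hl => ((hreal _ hD χ hχ).2 ⟨l, hl⟩).1
  -- the normalizer of `J` in the model
  set JL := (J.subgroupOf NR).map ι with hJL
  set Y := Subgroup.normalizer (JL : Set L) with hY
  have hjmem : ∀ x : NJ, ι (Subgroup.inclusion hNN x) ∈ Y := by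
    intro x
    refine mem_normalizer_of_cj_le ?_
    rintro _ ⟨_, ⟨y, hy, rfl⟩, rfl⟩
    refine ⟨Subgroup.inclusion hNN x * y * (Subgroup.inclusion hNN x)⁻¹, ?_, by simp⟩
    exact (Subgroup.mem_normalizer_iff.1 x.2.2 y).1 hy
  obtain ⟨j, hj⟩ : ∃ j : NJ →* Y, ∀ x, (j x : L) = ι (Subgroup.inclusion hNN x) :=
    ⟨(ι.comp (Subgroup.inclusion hNN)).codRestrict Y hjmem, fun _ => rfl⟩
  have hjinj : Function.Injective j := fun a b h =>
    Subgroup.inclusion_injective hNN (hinj (by rw [← hj, ← hj, h]))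
  have hRJp : IsPGroup p j.range := by
    rw [MonoidHom.range_eq_map]
    exact ((hS.to_le (normalizerIn_le J)).to_subgroup ⊤).map j
  haveI : Finite NJ := finite_of_le (normalizerIn_le J)
  -- its image is a Sylow subgroup
  obtain ⟨PY, hPY⟩ : ∃ PY : Sylow p Y, (PY : Subgroup Y) = j.range := by
    obtain ⟨P1, hP1⟩ := hRJp.exists_le_sylow
    refine ⟨P1, (Subgroup.eq_of_le_of_card_ge hP1 ?_).symm⟩
    obtain ⟨l, hl⟩ := CfsgLib.Fus.exists_conj_mem_sylow P0 (P1.2.map Y.subtype)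
    have hlr : ∀ y ∈ (P1 : Subgroup Y), ∃ s : NR, ι s = l * (y : L) * l⁻¹ := by
      intro y hy
      have := hl _ ⟨y, hy, rfl⟩
      rw [hP0] at this
      exact this
    have hlJ : ∀ x : J, l * ι (Subgroup.inclusion hJNR x) * l⁻¹ ∈ ι.range := by
      intro x
      have h1 := hl _ ⟨j (Subgroup.inclusion hJNJ x), hP1 ⟨_, rfl⟩, rfl⟩
      rw [hP0, Subgroup.coe_subtype, hj] at h1
      exact h1
    obtain ⟨θ, hθ⟩ : ∃ θ : J →* NR, ∀ x, ι (θ x) = l * ι (Subgroup.inclusion hJNR x) * l⁻¹ :=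
      ⟨(MonoidHom.ofInjective hinj).symm.toMonoidHom.comp
        (((MulAut.conj l).toMonoidHom.comp (ι.comp (Subgroup.inclusion hJNR))).codRestrict ι.range hlJ),
        fun x => by
          show ι ((MonoidHom.ofInjective hinj).symm ⟨_, hlJ x⟩) = _
          rw [MonoidHom.apply_ofInjective_symm]⟩
    have hθF : NR.subtype.comp θ ∈ F.Hom J := hFhom hJNR _ (fun x => (θ x).2) l fun x => hθ x
    set J₂ := (NR.subtype.comp θ).range with hJ₂
    have hle : ∀ y : (P1 : Subgroup Y), ∃ s : NR, (s : Ω) ∈ normalizerIn S J₂ ∧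
        ι s = l * ((y : Y) : L) * l⁻¹ := by
      rintro ⟨y, hy⟩
      obtain ⟨s, hs⟩ := hlr y hy
      refine ⟨s, ⟨s.2.1, ?_⟩, hs⟩
      have key : ∀ x : J, ∃ x' : J, (s : Ω) * (θ x : Ω) * (s : Ω)⁻¹ = (θ x' : Ω) := by
        intro x
        have hyY : (y : L) * ι (Subgroup.inclusion hJNR x) * (y : L)⁻¹ ∈ JL :=
          (Subgroup.mem_normalizer_iff.1 y.2 _).1 ⟨_, x.2, rfl⟩
        obtain ⟨x', hx', he⟩ := hyY
        refine ⟨⟨x', hx'⟩, congrArg Subtype.val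
          (hinj (?_ : ι (s * θ x * s⁻¹) = ι (θ ⟨x', hx'⟩)))⟩
        rw [map_mul, map_mul, map_inv, hs, hθ, hθ,
          show ι (Subgroup.inclusion hJNR ⟨x', hx'⟩) = ι x' from rfl, he]
        group
      haveI : Finite J := finite_of_le hJS
      haveI : Finite J₂ := Finite.of_surjective _ (NR.subtype.comp θ).rangeRestrict_surjective
      refine Subgroup.mem_normalizer_iff_map_conj_eq.2 (Subgroup.eq_of_le_of_card_ge ?_ ?_)
      · rintro _ ⟨_, ⟨x, rfl⟩, rfl⟩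
        obtain ⟨x', hx'⟩ := key x
        exact ⟨x', hx'.symm⟩
      · exact (Subgroup.card_map_of_injective (MulAut.conj (s : Ω)).injective).ge
    choose f hf hfe using hle
    haveI : Finite (normalizerIn S J₂) := finite_of_le (normalizerIn_le J₂)
    calc Nat.card P1 ≤ Nat.card (normalizerIn S J₂) :=
          Nat.card_le_card_of_injective (fun y => (⟨f y, hf y⟩ : normalizerIn S J₂)) fun a b hab => by
            have h1 : f a = f b := Subtype.ext (Subtype.mk_eq_mk.1 hab)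
            have h2 : l * ((a : Y) : L) * l⁻¹ = l * ((b : Y) : L) * l⁻¹ := by rw [← hfe, ← hfe, h1]
            exact Subtype.ext (Subtype.ext (mul_left_cancel (mul_right_cancel h2)))
      _ ≤ Nat.card NJ := hJn.2 J₂ ⟨_, hθF, rfl⟩
      _ = Nat.card j.range := Nat.card_congr (MonoidHom.ofInjective hjinj).toEquiv
  -- `φ` inside the normalizer of `J`
  have hφN : φ ∈ (normalizerSystem F R hRn.1).Hom Q := by
    refine ⟨hφ, hQNR, fun x => hQNR (hφQ x), φ.comp (Subgroup.inclusion (sup_le le_rfl hRQ)),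
      restrict_mem F hφ _, fun x => rfl, ?_⟩
    have hRφ : ∀ x : Q, (x : Ω) ∈ R → φ x ∈ R := by
      suffices R ≤ (R.comap φ).map Q.subtype by
        intro x hx
        obtain ⟨y, hy, hyx⟩ := this hx
        have e : y = x := Subtype.ext hyx
        exact e ▸ hy
      refine sup_le (fun z hz => ⟨⟨z, hJQ hz⟩, Subgroup.mem_sup_left (hφJ.le ⟨_, hz, rfl⟩), rfl⟩)
        fun c hc => ⟨⟨c, hC hc⟩, Subgroup.mem_sup_right ⟨hQS (hφQ _), fun z hz => ?_⟩, rfl⟩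
      obtain ⟨x, hx, rfl⟩ := hφJ.ge hz
      rw [← map_mul, ← map_mul]
      exact congrArg φ (Subtype.ext (hc.2 x hx))
    haveI : Finite R := finite_of_le hRn.1
    refine Subgroup.eq_of_le_of_card_ge ?_ ?_
    · rintro _ ⟨x, hx, rfl⟩
      exact hRφ _ hx
    · rw [Subgroup.card_map_of_injective (f := φ.comp (Subgroup.inclusion (sup_le le_rfl hRQ)))
        ((F.injective_of_mem hφ).comp (Subgroup.inclusion_injective _))]
      exact (Nat.card_congr (Subgroup.subgroupOfEquivOfLe le_sup_right).toEquiv).ge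
  obtain ⟨g, hg⟩ := (hreal Q hQNR φ fun x => hQNR (hφQ x)).1 hφN
  have hgY : g ∈ Y := by
    refine mem_normalizer_of_cj_le ?_
    rintro _ ⟨_, ⟨x, hx, rfl⟩, rfl⟩
    exact ⟨⟨φ ⟨x, hJQ hx⟩, hQNR (hφQ _)⟩, hφJ.le ⟨_, hx, rfl⟩, hg ⟨x, hJQ hx⟩⟩
  set gY : Y := ⟨g, hgY⟩ with hgYdef
  set Qj := (Q.subgroupOf NJ).map j with hQj
  set Jj := (J.subgroupOf NJ).map j with hJj
  have hJjmem : ∀ y : Y, y ∈ Jj ↔ (y : L) ∈ JL := by
    intro y
    constructor
    · rintro ⟨x, hx, rfl⟩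
      rw [hj]
      exact ⟨_, hx, rfl⟩
    · rintro ⟨x, hx, hxy⟩
      exact ⟨⟨x, hJNJ hx⟩, hx, Subtype.ext ((hj _).trans hxy)⟩
  haveI hJjn : Jj.Normal := ⟨fun n hn y => (hJjmem _).2
    ((Subgroup.mem_normalizer_iff.1 y.2 _).1 ((hJjmem n).1 hn))⟩
  have hQjR : Qj ≤ (PY : Subgroup Y) := hPY ▸ Subgroup.map_le_range j _
  have hgQ : cj gY Qj ≤ (PY : Subgroup Y) := by
    rintro _ ⟨_, ⟨x, hx, rfl⟩, rfl⟩
    rw [hPY]
    refine ⟨⟨φ ⟨x, hx⟩, hQN (hφQ _)⟩, Subtype.ext ?_⟩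
    show _ = g * (j x : L) * g⁻¹
    rw [hj, hj]
    exact hg ⟨x, hx⟩
  -- the factorisation of `N(J)`
  set A0 := Jj ⊓ Subgroup.centralizer (Jj : Set Y) with hA0
  haveI : A0.Normal := by rw [hA0]; infer_instance
  have hA0c : IsMulCommutative A0 :=
    ⟨⟨fun a b => Subtype.ext (Subgroup.mem_centralizer_iff.1 b.2.2 a a.2.1)⟩⟩
  have hJjp : IsPGroup p Jj :=
    hRJp.to_le (Subgroup.map_le_range j _)
  set Zs : Set Y := j '' {x | (x : Ω) ∈ Z} with hZs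
  have hRz : ∀ z ∈ Zs, ∀ r ∈ (PY : Subgroup Y), r * z = z * r := by
    rintro _ ⟨x, hx, rfl⟩ r hr'
    rw [hPY] at hr'
    obtain ⟨w, rfl⟩ := hr'
    rw [← map_mul, ← map_mul]
    exact congrArg j (Subtype.ext (hx.2 w w.2.1))
  have hZA0 : Zs ⊆ (A0 : Set Y) := by
    rintro _ ⟨x, hx, rfl⟩
    refine ⟨⟨x, hZJ hx, rfl⟩, Subgroup.mem_centralizer_iff.2 fun y hy => ?_⟩
    exact hRz _ ⟨x, hx, rfl⟩ y (hPY ▸ Subgroup.map_le_range j _ hy)
  obtain ⟨K, hKn, hKz, M, hMR, hRM, hfac, hMQ, hMalt⟩ :=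
    exists_factorization PY Zs hRz hA0c (hJjp.to_le inf_le_left) hZA0
  haveI := hKn
  obtain ⟨k, hk, h, hh, hgkh, hhQ⟩ := exists_split PY hRM hfac hQjR hgQ
  set M0 := (M.comap j).map NJ.subtype with hM0
  by_cases hMle : M0 ≤ Q
  · -- then `J = J(S)`
    have hMQj : M ≤ Qj := by
      intro y hy
      obtain ⟨x, rfl⟩ : y ∈ j.range := hPY ▸ hMR hy
      exact ⟨x, hMle ⟨x, hy, rfl⟩, rfl⟩
    have hQjJ : abJ Qj = Jj := by
      rw [hQj, hJj, hJ, abJ_map j hjinj, abJ_subgroupOf hQN]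
    have hMJj : M ≤ Jj := hQjJ ▸ hMQ Qj hQjR hMQj
    have hMR' : M = abJ (PY : Subgroup Y) := hMalt.resolve_right fun h' => h' Jj hJjn hJjp hMJj
    have heq : abOrder Qj = abOrder (PY : Subgroup Y) := by
      refine le_antisymm (abOrder_mono hQjR) ?_
      rw [← abOrder_abJ (PY : Subgroup Y), ← hMR']
      exact abOrder_mono hMQj
    have hJjeq : abJ (PY : Subgroup Y) = Jj :=
      le_antisymm (hMR' ▸ hMJj) (hQjJ ▸ abJ_mono hQjR heq)
    have hJNJ' : abJ NJ = J := by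
      rw [hPY, ← subgroupOf_self_map j, abJ_map_subgroupOf j hjinj le_rfl, hJj] at hJjeq
      have h1 := congrArg (Subgroup.map NJ.subtype) (Subgroup.map_injective hjinj hJjeq)
      rwa [Subgroup.map_subgroupOf_eq_of_le (abJ_le _), Subgroup.map_subgroupOf_eq_of_le hJNJ] at h1
    have hNS : NJ = S := by
      by_contra hne
      obtain ⟨s, hs, hsN⟩ :=
        Fusion.Alperin.exists_normalizing_not_mem hS (normalizerIn_le J) hne
      exact hsN ⟨hs.1, hJNJ' ▸ le_normalizer_abJ' NJ hs.2⟩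
    have hJS' : abJ S = J := by rw [← hNS]; exact hJNJ'
    exact hE.norm hφ (hJS' ▸ hJQ) (hJS'.symm ▸ hφJ)
  -- the part normalising `M` extends
  set D := Q ⊔ M0 with hD
  have hM0N : M0 ≤ NJ := Subgroup.map_subtype_le _
  have hDN : D ≤ NJ := sup_le hQN hM0N
  have hDmem : ∀ x : D, h * j (Subgroup.inclusion hDN x) * h⁻¹ ∈ j.range := by
    have hle : D ≤ (((PY : Subgroup Y).comap (MulAut.conj h).toMonoidHom).comap j).map NJ.subtype := by
      refine sup_le (fun x hx => ⟨⟨x, hQN hx⟩, hhQ ⟨_, ⟨⟨x, hQN hx⟩, hx, rfl⟩, rfl⟩, rfl⟩) ?_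
      rintro _ ⟨x, hx, rfl⟩
      exact ⟨x, hMR ((Subgroup.mem_normalizer_iff.1 hh _).1 hx), rfl⟩
    intro x
    obtain ⟨y, hy, hyx⟩ := hle x.2
    have e : y = Subgroup.inclusion hDN x := Subtype.ext hyx
    exact hPY ▸ (e ▸ hy : Subgroup.inclusion hDN x ∈
      ((PY : Subgroup Y).comap (MulAut.conj h).toMonoidHom).comap j)
  obtain ⟨η, hη⟩ : ∃ η : D →* NJ, ∀ x, j (η x) = h * j (Subgroup.inclusion hDN x) * h⁻¹ :=
    ⟨(MonoidHom.ofInjective hjinj).symm.toMonoidHom.comp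
      (((MulAut.conj h).toMonoidHom.comp (j.comp (Subgroup.inclusion hDN))).codRestrict j.range hDmem),
      fun x => by
        show j ((MonoidHom.ofInjective hjinj).symm ⟨_, hDmem x⟩) = _
        rw [MonoidHom.apply_ofInjective_symm]⟩
  have hηF : NJ.subtype.comp η ∈ F.Hom D := by
    refine hFhom (hDN.trans hNN) _ (fun x => hNN (η x).2) (h : L) fun x => ?_
    have := congrArg Subtype.val (hη x)
    simp only [Subgroup.coe_mul, InvMemClass.coe_inv, hj] at this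
    exact this
  obtain ⟨m, hm, hmQ⟩ := SetLike.not_le_iff_exists.1 hMle
  have hηE : NJ.subtype.comp η ∈ E.Hom D := big hηF
    (Fusion.Alperin.card_lt_of_le_of_mem (hDN.trans (normalizerIn_le J)) le_sup_left
      (Subgroup.mem_sup_right hm) hmQ)
  set η₁ := (NJ.subtype.comp η).comp (Subgroup.inclusion (le_sup_left : Q ≤ D)) with hη₁
  have hη₁E : η₁ ∈ E.Hom Q := restrict_mem E hηE le_sup_left
  have hη₁F : η₁ ∈ F.Hom Q := restrict_mem F hηF le_sup_left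
  obtain ⟨ι₁, hι₁, hι₁r, hι₁φ, -⟩ := exists_inv F hη₁F rfl
  have hmem : ∀ y, ι₁ y ∈ Q := fun y => hι₁r.le ⟨y, rfl⟩
  have hδ : φ.comp (ι₁.codRestrict Q hmem) ∈ F.Hom η₁.range := F.comp_mem hι₁ hφ hmem
  have hJη : ∀ z (hz : z ∈ J), ∃ x : Q, η₁ x = z ∧
      j ⟨φ x, hQN (hφQ x)⟩ = k * j ⟨z, hJNJ hz⟩ * k⁻¹ := by
    intro z hz
    have h1 : h⁻¹ * j ⟨z, hJNJ hz⟩ * h ∈ Jj := by
      simpa using hJjn.conj_mem _ ⟨_, hz, rfl⟩ h⁻¹
    obtain ⟨w, hw, hwz⟩ := h1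
    have hwQ : (w : Ω) ∈ Q := hJQ hw
    have e1 : j (η (Subgroup.inclusion le_sup_left (⟨w, hwQ⟩ : Q))) = j ⟨z, hJNJ hz⟩ := by
      rw [hη]
      show h * j w * h⁻¹ = _
      rw [hwz]
      group
    refine ⟨⟨w, hwQ⟩, congrArg Subtype.val (hjinj e1), ?_⟩
    have e2 : j ⟨φ ⟨w, hwQ⟩, hQN (hφQ _)⟩ = gY * j w * gY⁻¹ := by
      refine Subtype.ext ?_
      show _ = g * (j w : L) * g⁻¹
      rw [hj, hj]
      exact hg ⟨w, hwQ⟩
    rw [e2, hgkh, hwz]
    group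
  have hVfix : agemoCenter p S ≤
      ((Subgroup.centralizer ({k} : Set Y)).comap j).map NJ.subtype := by
    refine (Subgroup.closure_le _).2 ?_
    rintro _ ⟨z, hz, rfl⟩
    refine ⟨⟨z, hJNJ (hZJ hz)⟩ ^ p, ?_, by rw [pow_one]; rfl⟩
    show j (⟨z, hJNJ (hZJ hz)⟩ ^ p) ∈ Subgroup.centralizer ({k} : Set Y)
    rw [map_pow]
    exact Subgroup.mem_centralizer_singleton_iff.2 (hKz k hk _ ⟨_, hz, rfl⟩).symm
  have hδE : φ.comp (ι₁.codRestrict Q hmem) ∈ E.Hom η₁.range := by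
    refine hE.cent hδ (fun z hz => ?_) fun y hy => ?_
    · obtain ⟨x, hx, -⟩ := hJη z (hVJ hz)
      exact ⟨x, hx⟩
    · obtain ⟨x, hx, hφx⟩ := hJη y (hVJ hy)
      obtain ⟨v, hv, hvy⟩ := hVfix hy
      have hv' : v = ⟨y, hJNJ (hVJ hy)⟩ := Subtype.ext hvy
      subst hv'
      have hkv := Subgroup.mem_centralizer_singleton_iff.1 hv
      rw [← hkv, mul_inv_cancel_right] at hφx
      show φ ⟨ι₁ y, hmem y⟩ = y
      refine Eq.trans (congrArg φ (Subtype.ext ?_)) (congrArg Subtype.val (hjinj hφx))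
      show ι₁ y = x
      rw [← hι₁φ x ⟨x, rfl⟩]
      exact congrArg ι₁ (Subtype.ext hx.symm)
  refine hom_of_comp E hη₁E hδE (fun x => ⟨x, rfl⟩) fun x => ?_
  show φ x = φ ⟨ι₁ ⟨η₁ x, _⟩, _⟩
  exact congrArg φ (Subtype.ext (hι₁φ x _).symm)

/-- The maps fixing the agemo of the centre and those normalising `J(S)` generate. -/
theorem hom_mem (hS : IsPGroup p S) {F E : Cfsg.FusionSystem S} (hF : F.IsSaturated p)
    (hE : GenHyp p F E) {P : Subgroup Ω} {φ : P →* Ω} (hφ : φ ∈ F.Hom P) : φ ∈ E.Hom P := by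
  induction hn : Nat.card S - Nat.card P using Nat.strong_induction_on generalizing P with
  | _ n ih =>
  have hPS := hom_le F hφ
  by_cases htop : P = S
  · subst htop
    have hr : φ.range = P :=
      Subgroup.eq_of_le_of_card_ge (range_le F hφ) (isConj_card (isConj_of_hom F hφ)).le
    refine hE.norm hφ (abJ_le P) ?_
    rw [← abJ_map_subgroupOf φ (F.injective_of_mem hφ) le_rfl, subgroupOf_self_map, hr]
  have big : ∀ {D : Subgroup Ω} {ψ : D →* Ω}, ψ ∈ F.Hom D → Nat.card P < Nat.card D → ψ ∈ E.Hom D := by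
    intro D ψ hψ hlt
    have : Nat.card D ≤ Nat.card S := Subgroup.card_le_of_le (hom_le F hψ)
    exact ih (Nat.card S - Nat.card D) (by omega) hψ rfl
  obtain ⟨Q, hPQ, hQ⟩ := exists_fullyNormalized F hPS
  have hcardQ : Nat.card P = Nat.card Q := isConj_card hPQ
  have hne : ∀ {T : Subgroup Ω}, Nat.card P = Nat.card T → T ≠ S := fun h h' =>
    htop (Subgroup.eq_of_le_of_card_ge hPS (by rw [h, h']))
  have hbigN : ∀ {T : Subgroup Ω}, T ≤ S → Nat.card P = Nat.card T →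
      Nat.card P < Nat.card (normalizerIn S T) := by
    intro T hT hcard
    obtain ⟨g, hg, hgT⟩ := Fusion.Alperin.exists_normalizing_not_mem hS hT (hne hcard)
    exact hcard ▸ Fusion.Alperin.card_lt_of_le_of_mem (normalizerIn_le T) (le_normalizerIn hT) hg hgT
  -- automorphisms of `Q`
  have haut : ∀ {α : Q →* Ω}, α ∈ F.Hom Q → α.range = Q → α ∈ E.Hom Q := by
    intro α hα hαr
    by_cases hc : centralizerIn S Q ≤ Q
    swap
    · obtain ⟨g, hg, hgQ⟩ := SetLike.not_le_iff_exists.1 hc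
      obtain ⟨ψ, hψ, hψe⟩ := (fullyNormalized_props hS hF hQ).2.2 Q α hα hαr
      have hlt := Fusion.Alperin.card_lt_of_le_of_mem
        (extender_le_normalizerIn.trans (normalizerIn_le Q)) (le_extender F hα)
        (centralizerIn_le_extender hg) hgQ
      exact hom_restrict E (big hψ (hcardQ ▸ hlt)) (le_extender F hα) fun x => (hψe x x.2 _).symm
    have hcen := isCentric_of_fullyCentralized (fullyCentralized_of_fullyNormalized hS hF hQ) hc
    obtain ⟨J', hJ', hR', ψ, hψ, hψJ⟩ := exists_good_conj hS hF ((abJ_le Q).trans hQ.1)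
    have hQN : Q ≤ normalizerIn S (abJ Q) := fun x hx =>
      ⟨hQ.1 hx, le_normalizer_abJ' Q (Subgroup.le_normalizer hx)⟩
    have hlt : Nat.card P < Nat.card (normalizerIn S (abJ Q)) := by
      haveI : Finite (normalizerIn S (abJ Q)) := finite_of_le (normalizerIn_le _)
      refine lt_of_lt_of_le (hbigN hQ.1 hcardQ) (Subgroup.card_le_of_le fun g hg => ?_)
      exact ⟨hg.1, le_normalizer_abJ' Q hg.2⟩
    set χ := ψ.comp (Subgroup.inclusion hQN) with hχ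
    have hχF : χ ∈ F.Hom Q := restrict_mem F hψ hQN
    have hχE : χ ∈ E.Hom Q := restrict_mem E (big hψ hlt) hQN
    set Q' := χ.range with hQ'
    have hconj : F.IsConj Q Q' := ⟨χ, hχF, rfl⟩
    have hJQ' : abJ Q' = J' := by
      rw [hQ', hχ, map_subgroupOf_range, abJ_map_subgroupOf ψ (F.injective_of_mem hψ) hQN, hψJ]
    obtain ⟨χi, hχi, hχir, hχiχ, hχχi⟩ := exists_inv E hχE rfl
    obtain ⟨χi', hχi', hχi'r, hχi'χ, -⟩ := exists_inv F hχF rfl
    have hi : ∀ y, χi' y ∈ Q := fun y => hχi'r.le ⟨y, rfl⟩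
    have hαQ : ∀ x : Q, α x ∈ Q := fun x => hαr.le ⟨x, rfl⟩
    obtain ⟨β, hβdef⟩ : ∃ β : Q' →* Ω, β =
        χ.comp ((α.comp (χi'.codRestrict Q hi)).codRestrict Q fun y => hαQ _) := ⟨_, rfl⟩
    have hβF : β ∈ F.Hom Q' := hβdef ▸ F.comp_mem (F.comp_mem hχi' hα hi) hχF _
    have hβr : β.range = Q' := by
      haveI : Finite Q' := finite_of_le (range_le F hχF)
      refine Subgroup.eq_of_le_of_card_ge ?_ (isConj_card (isConj_of_hom F hβF)).le
      rintro _ ⟨y, rfl⟩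
      rw [hβdef]
      exact ⟨_, rfl⟩
    have hβE : β ∈ E.Hom Q' :=
      aut_mem hS hF hE (isCentric_of_isConj hcen hconj) (hJQ'.symm ▸ hJ') (hJQ'.symm ▸ hR')
        (fun hψ hlt => big hψ (by rw [hcardQ, isConj_card hconj]; exact hlt)) hβF hβr
    have h1 : β.comp (χ.codRestrict Q' fun x => ⟨x, rfl⟩) ∈ E.Hom Q := E.comp_mem hχE hβE _
    refine hom_of_comp E h1 hχi (fun x => hβr.le ⟨_, rfl⟩) fun x => ?_
    show α x = χi ⟨β ⟨χ x, _⟩, _⟩
    refine (hχiχ ⟨α x, hαQ x⟩ ⟨_, rfl⟩).symm.trans (congrArg χi (Subtype.ext ?_))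
    refine Eq.trans ?_ (DFunLike.congr_fun hβdef _).symm
    show χ ⟨α x, _⟩ = χ ⟨α ⟨χi' ⟨χ x, _⟩, _⟩, _⟩
    exact congrArg χ (Subtype.ext (congrArg α (Subtype.ext (hχi'χ x _).symm)))
  -- reduction to automorphisms of `Q`
  have move : ∀ {T : Subgroup Ω}, T ≤ S → Nat.card P = Nat.card T → F.IsConj T Q →
      ∃ χ, χ ∈ F.Hom T ∧ χ ∈ E.Hom T ∧ χ.range = Q := by
    intro T hT hcard hTQ
    obtain ⟨χ, hχ, hχr, ψ, hψ, hψe⟩ := exists_normalizer_map_fn hS hF hQ hTQ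
    exact ⟨χ, hχ, hom_restrict E (big hψ (hbigN hT hcard)) (le_normalizerIn hT)
      fun x => (hψe x _).symm, hχr⟩
  obtain ⟨χ, hχF, hχE, hχr⟩ := move hPS rfl hPQ
  obtain ⟨χ', hχ'F, hχ'E, hχ'r⟩ := move (range_le F hφ) (isConj_card (isConj_of_hom F hφ))
    (isConj_trans (isConj_symm (isConj_of_hom F hφ)) hPQ)
  obtain ⟨χi, hχi, hχir, hχiχ, -⟩ := exists_inv F hχF hχr
  obtain ⟨χ'i, hχ'i, hχ'ir, hχ'iχ, -⟩ := exists_inv E hχ'E hχ'r
  have h1 : ∀ y, χi y ∈ P := fun y => hχir.le ⟨y, rfl⟩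
  have h2 : ∀ y, φ.comp (χi.codRestrict P h1) y ∈ φ.range := fun y => ⟨_, rfl⟩
  obtain ⟨α, hαdef⟩ : ∃ α : Q →* Ω, α =
      χ'.comp ((φ.comp (χi.codRestrict P h1)).codRestrict φ.range h2) := ⟨_, rfl⟩
  have hαF : α ∈ F.Hom Q := hαdef ▸ F.comp_mem (F.comp_mem hχi hφ h1) hχ'F h2
  have hαr : α.range = Q := by
    haveI : Finite Q := finite_of_le hQ.1
    refine Subgroup.eq_of_le_of_card_ge ?_ (isConj_card (isConj_of_hom F hαF)).le
    rintro _ ⟨y, rfl⟩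
    rw [hαdef]
    exact hχ'r.le ⟨_, rfl⟩
  have h3 : ∀ x : P, χ x ∈ Q := fun x => hχr.le ⟨x, rfl⟩
  have h4 : α.comp (χ.codRestrict Q h3) ∈ E.Hom P := E.comp_mem hχE (haut hαF hαr) h3
  refine hom_of_comp E h4 hχ'i (fun x => hαr.le ⟨_, rfl⟩) fun x => ?_
  show φ x = χ'i ⟨α ⟨χ x, _⟩, _⟩
  refine (hχ'iχ ⟨φ x, ⟨x, rfl⟩⟩ (hχ'r.le ⟨_, rfl⟩)).symm.trans (congrArg χ'i (Subtype.ext ?_))
  refine Eq.trans ?_ (DFunLike.congr_fun hαdef _).symm
  show χ' ⟨φ x, _⟩ = χ' ⟨φ ⟨χi ⟨χ x, _⟩, _⟩, _⟩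
  exact congrArg χ' (Subtype.ext (congrArg φ (Subtype.ext (hχiχ x _).symm)))

end CfsgLib.FusGenerate
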