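import Cfsg.Agent.FusGenerate.GlaubermanCenter

/-!
For odd `p` the centre of a saturated fusion system is a direct factor of `Z(S)`.
-/

set_option autoImplicit false

namespace CfsgLib.FusGenerate

open Cfsg Cfsg.FusionSystem CfsgLib.Fus CfsgLib.WeakClosureJ

universe u

/-- The transfer of fixed points: a homomorphism from the fixed points of a subgroup of index `n` into the
fixed points of the whole group, the `n`-th power on the latter. -/
theorem exists_transfer {G W : Type*} [Group G] [CommGroup W] (ρ : G →* MulAut W) (P : Subgroup G)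
    [Finite (G ⧸ P)] : ∃ τ : W →* W, ∀ x : W, (∀ g ∈ P, ρ g x = x) →
      (∀ g : G, ρ g (τ x) = τ x) ∧ ((∀ g : G, ρ g x = x) → τ x = x ^ P.index) := by
  classical
  letI : Fintype (G ⧸ P) := Fintype.ofFinite _
  refine ⟨∏ q : G ⧸ P, (ρ q.out).toMonoidHom, fun x hx => ⟨fun g => ?_, fun h => ?_⟩⟩
  · rw [MonoidHom.finsetProd_apply, map_prod]
    refine Fintype.prod_equiv (MulAction.toPerm g) _ _ fun q => ?_
    show ρ g (ρ q.out x) = ρ (g • q).out x
    have hmem : (g • q).out⁻¹ * (g * q.out) ∈ P := by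
      refine QuotientGroup.eq.1 ?_
      rw [QuotientGroup.out_eq']
      conv_lhs => rw [← QuotientGroup.out_eq' q]
      rfl
    calc ρ g (ρ q.out x) = ρ ((g • q).out * ((g • q).out⁻¹ * (g * q.out))) x := by
          rw [mul_inv_cancel_left, map_mul]; rfl
      _ = ρ (g • q).out x := by rw [map_mul, MulAut.mul_apply, hx _ hmem]
  · rw [MonoidHom.finsetProd_apply, Finset.prod_congr rfl fun q _ => h q.out]
    rw [Finset.prod_const, Finset.card_univ, Subgroup.index, Nat.card_eq_fintype_card]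

variable {Ω : Type u} [Group Ω] {S : Subgroup Ω} [Finite S] {p : ℕ} [Fact p.Prime]

omit [Finite S] [Fact p.Prime] in
theorem isFullyNormalized_of_normalizer_eq [Finite S] {F : Cfsg.FusionSystem S} {R : Subgroup Ω}
    (hR : R ≤ S) (h : S ≤ normalizerIn S R) : F.IsFullyNormalized R := by
  refine ⟨hR, fun Q _ => ?_⟩
  haveI : Finite (normalizerIn S R) := finite_of_le (normalizerIn_le R)
  exact Subgroup.card_le_of_le ((normalizerIn_le Q).trans h)

/-- The centre is a direct factor of `Z(S)`. -/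
theorem center_directFactor (hp : p ≠ 2) (hS : IsPGroup p S) {F : Cfsg.FusionSystem S}
    (hF : F.IsSaturated p) :
    ∃ K : Subgroup Ω, K ≤ S ⊓ Subgroup.centralizer (S : Set Ω) ∧ F.center ⊓ K = ⊥ ∧
      F.center ⊔ K = S ⊓ Subgroup.centralizer (S : Set Ω) := by
  classical
  set Z := S ⊓ Subgroup.centralizer (S : Set Ω) with hZdef
  set J := abJ S with hJdef
  set R := J ⊔ centralizerIn S J with hRdef
  have hJS : J ≤ S := abJ_le S
  have hRS : R ≤ S := sup_le hJS (centralizerIn_le J)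
  have hSJ : S ≤ normalizerIn S J :=
    fun g hg => ⟨hg, le_normalizer_abJ' S (Subgroup.le_normalizer hg)⟩
  have hSR : S ≤ normalizerIn S R := by
    intro g hg
    refine ⟨hg, Subgroup.mem_normalizer_iff.2 fun y => ?_⟩
    have key : ∀ g ∈ S, R ≤ R.comap (MulAut.conj g).toMonoidHom := by
      intro g hg
      refine sup_le (fun y hy => Subgroup.mem_sup_left ((Subgroup.mem_normalizer_iff.1 (hSJ hg).2 y).1 hy))
        fun c hc => Subgroup.mem_sup_right ⟨S.mul_mem (S.mul_mem hg hc.1) (S.inv_mem hg), fun t ht => ?_⟩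
      show t * (g * c * g⁻¹) = g * c * g⁻¹ * t
      have h2 := hc.2 _ ((Subgroup.mem_normalizer_iff''.1 (hSJ hg).2 t).1 ht)
      calc t * (g * c * g⁻¹) = g * ((g⁻¹ * t * g) * c) * g⁻¹ := by group
        _ = g * (c * (g⁻¹ * t * g)) * g⁻¹ := by rw [h2]
        _ = g * c * g⁻¹ * t := by group
    exact ⟨fun hy => key g hg hy, fun hy => by
      have h1 := key g⁻¹ (inv_mem hg) hy
      simpa [mul_assoc] using h1⟩
  have hJn := isFullyNormalized_of_normalizer_eq (F := F) hJS hSJ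
  have hRn := isFullyNormalized_of_normalizer_eq (F := F) hRS hSR
  have hZJ : Z ≤ J := fun z hz => mem_abJ_of_central' le_rfl hz.1 hz.2
  have hZR : Z ≤ R := hZJ.trans le_sup_left
  haveI : Finite R := finite_of_le hRS
  haveI := finite_mulAut R
  set Zc := Subgroup.center R with hZcdef
  letI : CommGroup Zc :=
    { (inferInstance : Group Zc) with
      mul_comm := fun a b => Subtype.ext (Subgroup.mem_center_iff.1 b.2 (a : R)) }
  have hact : ∀ (α : MulAut R) (z : R), z ∈ Zc → α z ∈ Zc := fun α z hz =>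
    Subgroup.mem_center_iff.2 fun t => by
      obtain ⟨t, rfl⟩ := α.surjective t
      rw [← map_mul, ← map_mul, Subgroup.mem_center_iff.1 hz]
  let act : MulAut R → MulAut Zc := fun α =>
    { toFun := fun z => ⟨α z, hact α _ z.2⟩
      invFun := fun z => ⟨α⁻¹ z, hact α⁻¹ _ z.2⟩
      left_inv := fun z => Subtype.ext (α.symm_apply_apply _)
      right_inv := fun z => Subtype.ext (α.apply_symm_apply _)
      map_mul' := fun a b => Subtype.ext (map_mul α (a : R) (b : R)) }
  let ρ : F.autGroup R →* MulAut Zc :=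
    { toFun := fun α => act α
      map_one' := MulEquiv.ext fun _ => Subtype.ext rfl
      map_mul' := fun _ _ => MulEquiv.ext fun _ => Subtype.ext rfl }
  set P := (Cfsg.autInducedBy S R).subgroupOf (F.autGroup R) with hPdef
  obtain ⟨τ, hτ⟩ := exists_transfer ρ P
  have hZc : ∀ z (hz : z ∈ Z), (⟨z, hZR hz⟩ : R) ∈ Zc := fun z hz =>
    Subgroup.mem_center_iff.2 fun t => Subtype.ext (hz.2 t (hRS t.2))
  have hPfix : ∀ z : Zc, ((z : R) : Ω) ∈ Z → ∀ g ∈ P, ρ g z = z := by
    intro z hz g hg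
    obtain ⟨s, hs, hsg⟩ := mem_autInducedBy_iff.1 (hg : (g : MulAut R) ∈ Cfsg.autInducedBy S R)
    refine Subtype.ext (Subtype.ext ?_)
    show (((g : MulAut R) (z : R) : R) : Ω) = _
    exact (hsg (z : R)).trans (by rw [hz.2 s hs, mul_inv_cancel_right])
  -- the fixed points are the centre
  obtain ⟨N, hN⟩ : ∃ N : Cfsg.FusionSystem (normalizerIn S (abJ S)), F.IsNormalizerSystem (abJ S) N :=
    ⟨normalizerSystem F (abJ S) hJS, fun _ => rfl⟩
  have hfixC : ∀ z : Zc, (∀ g, ρ g z = z) → ((z : R) : Ω) ∈ F.center := by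
    intro z hz
    set x : Ω := ((z : R) : Ω) with hxdef
    have hxR : x ∈ R := (z : R).2
    have hfix : ∀ α ∈ F.autGroup R, ∀ hx : x ∈ R, ((α ⟨x, hx⟩ : R) : Ω) = x := fun α hα _ =>
      congrArg (fun t : Zc => ((t : R) : Ω)) (hz ⟨α, hα⟩)
    have hxZ : x ∈ Z := by
      refine ⟨hRS hxR, fun s hs => ?_⟩
      have h1 := hfix _ (autInducedBy_le_autGroup F hRS (conjAut_mem_autInducedBy (hSR hs).2 hs)) hxR
      rw [conjAut_apply] at h1
      exact mul_inv_eq_iff_eq_mul.1 h1
    have hxN : x ∈ N.center := by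
      refine (le_sSup ?_ : Subgroup.zpowers x ≤ N.center) (Subgroup.mem_zpowers x)
      refine ⟨(Subgroup.zpowers_le.2 hxZ.1).trans hSJ, fun Q φ hφ => ?_⟩
      rw [hN Q] at hφ
      obtain ⟨-, -, -, ψ, hψ, hψe, hψJ⟩ := hφ
      have hxJ : Subgroup.zpowers x ≤ J := Subgroup.zpowers_le.2 (hZJ hxZ)
      have hle : Q ⊔ Subgroup.zpowers x ≤ Q ⊔ J := sup_le_sup_left hxJ _
      -- `ψ` fixes `x`
      have hβ : ψ.comp (Subgroup.inclusion (le_sup_right : J ≤ Q ⊔ J)) ∈ F.Hom J := restrict_mem F hψ _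
      have hβr : (ψ.comp (Subgroup.inclusion (le_sup_right : J ≤ Q ⊔ J))).range = J :=
        (map_subgroupOf_range ψ _).trans hψJ
      obtain ⟨ξ, hξ, hξe⟩ := exists_ext (fullyNormalized_props hS hF hJn).2 hβ hβr
        (le_sup_left : J ≤ R) (sup_le (le_extender F hβ) centralizerIn_le_extender)
      have hξr : ξ.range = R := by
        refine Subgroup.eq_of_le_of_card_ge ?_ (isConj_card (isConj_of_hom F hξ)).le
        rintro _ ⟨y, rfl⟩
        refine map_mem_sup ξ (fun t => ?_) (fun t => ?_) y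
        · rw [hξe t]
          exact hβr.le ⟨t, rfl⟩
        · exact map_mem_centralizerIn hβr hξ le_sup_left hξe t.2.2
      have h1 := hfix _ (isoOf_mem_autGroup hξ hξr) hxR
      rw [isoOf_apply] at h1
      have hψx : ψ ⟨x, Subgroup.mem_sup_right (hZJ hxZ)⟩ = x := (hξe ⟨x, hZJ hxZ⟩).symm.trans h1
      refine ⟨ψ.comp (Subgroup.inclusion hle), ?_, fun y => hψe y, ?_⟩
      · rw [hN]
        have hle2 : Q ⊔ Subgroup.zpowers x ⊔ J ≤ Q ⊔ J := sup_le hle le_sup_right
        refine ⟨restrict_mem F hψ hle, (hom_le F (restrict_mem F hψ hle)).trans hSJ,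
          fun y => hSJ (Fus.hom_mem F hψ _), ψ.comp (Subgroup.inclusion hle2), restrict_mem F hψ hle2,
          fun y => rfl, ?_⟩
        refine Eq.trans ?_ hψJ
        ext y
        constructor
        · rintro ⟨t, ht, rfl⟩
          exact ⟨_, ht, rfl⟩
        · rintro ⟨t, ht, rfl⟩
          exact ⟨⟨t, Subgroup.mem_sup_right ht⟩, ht, rfl⟩
      · rintro ⟨y, k, rfl⟩
        show ψ ⟨x ^ k, _⟩ = x ^ k
        have e : (⟨x ^ k, hle (Subgroup.mem_sup_right ⟨k, rfl⟩)⟩ : (Q ⊔ J : Subgroup Ω)) =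
            (⟨x, Subgroup.mem_sup_right (hZJ hxZ)⟩ : (Q ⊔ J : Subgroup Ω)) ^ k := Subtype.ext (by simp)
        rw [e, map_zpow, hψx]
    exact (le_sSup (isCentral_zpowers_thompson hS hF hN hxZ (Or.inl ⟨rfl, Or.inl hp⟩) hxN) :
      Subgroup.zpowers x ≤ F.center) (Subgroup.mem_zpowers x)
  obtain ⟨hCS, hCext⟩ := Fusion.Alperin.isCentral_center hS hF
  have hCZ : F.center ≤ Z := le_inf hCS F.center_le_centralizer
  have hCfix : ∀ z : Zc, ((z : R) : Ω) ∈ F.center → ∀ g, ρ g z = z := by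
    intro z hz g
    obtain ⟨ψ, -, hψe, hψC⟩ := hCext R _ ((mem_autGroup_iff F hRS).1 g.2)
    refine Subtype.ext (Subtype.ext ?_)
    exact (hψe (z : R)).symm.trans (hψC ⟨_, hz⟩)
  -- the kernel of the transfer
  set ι : Zc →* Ω := R.subtype.comp Zc.subtype with hιdef
  set K := (τ.ker).map ι ⊓ Z with hKdef
  have hn : ¬ p ∣ P.index := ((isFullyAutomized_iff hS F).1 (fullyNormalized_props hS hF hRn).1).2
  have hcop : ∀ w : Zc, P.index.Coprime (orderOf w) := by
    intro w
    obtain ⟨e, he⟩ := IsPGroup.iff_orderOf.1 (((hS.to_le hRS).to_subgroup Zc)) w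
    rw [he]
    exact ((Fact.out : p.Prime).coprime_iff_not_dvd.2 hn).symm.pow_right e
  refine ⟨K, inf_le_right, ?_, ?_⟩
  · refine (Subgroup.eq_bot_iff_forall _).2 ?_
    rintro y ⟨hyC, ⟨w, hw, rfl⟩, hwZ⟩
    have h1 := (hτ w (hPfix w hwZ)).2 (hCfix w hyC)
    rw [show τ w = 1 from hw] at h1
    obtain ⟨j, hj⟩ := exists_pow_eq_self_of_coprime (hcop w)
    rw [← h1, one_pow] at hj
    rw [← hj, map_one]
  · refine le_antisymm (sup_le hCZ inf_le_right) fun x hx => ?_
    set w : Zc := ⟨⟨x, hZR hx⟩, hZc x hx⟩ with hwdef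
    have hτw := (hτ w (hPfix w hx)).1
    obtain ⟨j, hj⟩ := exists_pow_eq_self_of_coprime (hcop (τ w))
    set f := τ w ^ j with hf
    have hff : f ^ P.index = τ w := by rw [hf, ← pow_mul, mul_comm, pow_mul, hj]
    have hfC : ι f ∈ F.center := hfixC f fun g => by rw [hf, map_pow, hτw g]
    have hkZ : ι (f⁻¹ * w) ∈ Z := by
      rw [map_mul, map_inv]
      exact mul_mem (inv_mem (hCZ hfC)) hx
    have hτf : τ f = f ^ P.index :=
      (hτ f (hPfix f (hCZ hfC))).2 (hCfix f hfC)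
    have hk : f⁻¹ * w ∈ τ.ker := by
      rw [MonoidHom.mem_ker, map_mul, map_inv, hτf, hff, inv_mul_cancel]
    have e : x = ι f * ι (f⁻¹ * w) := by rw [← map_mul, mul_inv_cancel_left]; rfl
    rw [e]
    exact mul_mem (Subgroup.mem_sup_left hfC) (Subgroup.mem_sup_right ⟨⟨_, hk, rfl⟩, hkZ⟩)

end CfsgLib.FusGenerate
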