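import Cfsg.Agent.FusGenerate.QuadraticFunctor
import Cfsg.Agent.FusGenerate.AgemoThompson
import Cfsg.Agent.WeakClosureJ.Inner
import Cfsg.Agent.Eq.Def_FusionReduction

/-!
Glauberman's theorem for fusion systems: the centre of the normaliser system of `J(S)` and the centre of a
saturated system.
-/

set_option autoImplicit false

namespace CfsgLib.FusGenerate

open Cfsg Cfsg.FusionSystem CfsgLib.Fus CfsgLib.WeakClosureJ

universe u

/-- The Thompson subgroup as a functor. -/
def jFunctor : ∀ (Q : Type u) [Group Q], Subgroup Q := fun Q _ => abJ (⊤ : Subgroup Q)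

theorem wOf_jFunctor {G : Type u} [Group G] (T : Subgroup G) : wOf jFunctor T = abJ T := by
  show (abJ (⊤ : Subgroup T)).map T.subtype = abJ T
  rw [← abJ_map _ T.subtype_injective, ← MonoidHom.range_eq_map, T.range_subtype]

theorem jFunctor_natural (p : ℕ) : WNatural (jFunctor.{u}) p := by
  intro Q R _ _ _ _ φ
  show (abJ (⊤ : Subgroup Q)).map φ.toMonoidHom = abJ ⊤
  rw [← abJ_map φ.toMonoidHom φ.injective, Subgroup.map_top_of_surjective _ φ.surjective]

theorem center_le_jFunctor (Q : Type u) [Group Q] [Finite Q] : Subgroup.center Q ≤ jFunctor Q :=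
  fun _ hy => mem_abJ_of_central (Subgroup.mem_top _) fun t _ => Subgroup.mem_center_iff.1 hy t

variable {Ω : Type u} [Group Ω] {S : Subgroup Ω} [Finite S] {p : ℕ} [Fact p.Prime]

omit [Finite S] [Fact p.Prime] in
theorem involves_free {F : Cfsg.FusionSystem S} (hfree : F.IsSectionFree p (Equiv.Perm (Fin 4)))
    {T : Subgroup Ω} (hT : F.IsFullyNormalized T) (hTc : F.IsCentric T)
    {L : Type u} [Group L] {ι : normalizerIn S T →* L}
    (hm : (normalizerSystem F T hT.1).IsModel p L ι) : ¬ Cfsg.Involves (Equiv.Perm (Fin 4)) L :=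
  hfree T hT hTc _ (fun _ => rfl) L ι hm

/-- An element of `Z(S)`, or its `p`-th power, central in `N_F(J(S))` is central in `F`. -/
theorem isCentral_zpowers_thompson (hS : IsPGroup p S) {F : Cfsg.FusionSystem S} (hF : F.IsSaturated p)
    {N : Cfsg.FusionSystem (normalizerIn S (abJ S))} (hN : F.IsNormalizerSystem (abJ S) N)
    {z x : Ω} (hz : z ∈ S ⊓ Subgroup.centralizer (S : Set Ω))
    (hcase : (x = z ∧ (p ≠ 2 ∨ F.IsSectionFree p (Equiv.Perm (Fin 4)))) ∨ x = z ^ p)
    (hxN : x ∈ N.center) : F.IsCentral (Subgroup.zpowers x) := by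
  have hxZ : x ∈ S ⊓ Subgroup.centralizer (S : Set Ω) := by
    rcases hcase with ⟨h, -⟩ | h
    · exact h ▸ hz
    · exact h ▸ pow_mem hz p
  refine isCentral_zpowers_of_control (jFunctor_natural p) (fun Q _ _ _ => center_le_jFunctor Q) hS hF
    (wOf_jFunctor S).symm hN hxZ hxN fun T hT hTc L _ _ ι hm P0 hP0 hOp hx hn l => ?_
  rw [wOf_jFunctor] at hn
  have hzT : z ∈ T := centralizerIn_le_of_centric hTc ⟨hz.1, fun t ht => hz.2 t (hT.1 ht)⟩
  set zT : normalizerIn S T := ⟨z, le_normalizerIn hT.1 hzT⟩ with hzTdef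
  have hOn : (Cfsg.pCore p L).Normal := Cfsg.pCore_normal p L
  set V := Cfsg.pCore p L ⊓ Subgroup.centralizer (Cfsg.pCore p L : Set L) with hV
  haveI : V.Normal := by rw [hV]; infer_instance
  have hVc : IsMulCommutative V :=
    ⟨⟨fun a b => Subtype.ext (Subgroup.mem_centralizer_iff.1 b.2.2 a a.2.1)⟩⟩
  have hVp : IsPGroup p V := (CfsgLib.CharP.isPGroup_pCore).to_le inf_le_left
  have hRz : ∀ r ∈ (P0 : Subgroup L), r * ι zT = ι zT * r := by
    intro r hr
    rw [hP0] at hr
    obtain ⟨w, rfl⟩ := hr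
    rw [← map_mul, ← map_mul]
    exact congrArg ι (Subtype.ext (hz.2 w w.2.1))
  have hzV : ι zT ∈ V := ⟨hOp _ hzT, Subgroup.mem_centralizer_iff.2 fun t ht =>
    hRz t (CfsgLib.CharP.pCore_le_sylow P0 ht)⟩
  refine inner V hVc hVp P0 hzV hRz ?_ hn l
  rcases hcase with ⟨h, hor⟩ | h
  · exact Or.inl ⟨congrArg ι (Subtype.ext h), hor.imp_right fun hf => involves_free hf hT hTc hm⟩
  · exact Or.inr (by rw [← map_pow]; exact congrArg ι (Subtype.ext h))

omit [Fact p.Prime] in
/-- The centre of the normaliser system of `J(S)` lies in `Z(S)`. -/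
theorem center_normalizer_le {F : Cfsg.FusionSystem S}
    {N : Cfsg.FusionSystem (normalizerIn S (abJ S))} (hN : F.IsNormalizerSystem (abJ S) N) :
    N.center ≤ S ⊓ Subgroup.centralizer (S : Set Ω) := by
  have hSN : S ≤ normalizerIn S (abJ S) :=
    fun g hg => ⟨hg, le_normalizer_abJ' S (Subgroup.le_normalizer hg)⟩
  refine le_inf ((sSup_le fun X hX => hX.1).trans (normalizerIn_le _))
    (N.center_le_centralizer.trans (Subgroup.centralizer_le hSN))

/-- The centre of the system is contained in that of the normaliser system of `J(S)`. -/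
theorem center_le_center_normalizer (hS : IsPGroup p S) {F : Cfsg.FusionSystem S} (hF : F.IsSaturated p)
    {N : Cfsg.FusionSystem (normalizerIn S (abJ S))} (hN : F.IsNormalizerSystem (abJ S) N) :
    F.center ≤ N.center := by
  have hSN : S ≤ normalizerIn S (abJ S) :=
    fun g hg => ⟨hg, le_normalizer_abJ' S (Subgroup.le_normalizer hg)⟩
  obtain ⟨hXS, hX⟩ := Fusion.Alperin.isCentral_center hS hF
  refine le_sSup ⟨hXS.trans hSN, fun P φ hφ => ?_⟩
  rw [hN P] at hφ
  obtain ⟨-, -, -, ψ, hψ, hψe, hψJ⟩ := hφ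
  obtain ⟨ξ, hξ, hξe, hξX⟩ := hX _ ψ hψ
  have hle : P ⊔ F.center ≤ P ⊔ abJ S ⊔ F.center := sup_le_sup_right le_sup_left _
  refine ⟨ξ.comp (Subgroup.inclusion hle), ?_, fun y => (hξe (Subgroup.inclusion le_sup_left y)).trans
    (hψe y), fun y => hξX y⟩
  rw [hN]
  have hle2 : P ⊔ F.center ⊔ abJ S ≤ P ⊔ abJ S ⊔ F.center := by rw [sup_right_comm]
  refine ⟨restrict_mem F hξ hle, (hom_le F (restrict_mem F hξ hle)).trans hSN,
    fun y => hSN (Fus.hom_mem F hξ _), ξ.comp (Subgroup.inclusion hle2), restrict_mem F hξ hle2,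
    fun y => rfl, ?_⟩
  ext y
  constructor
  · rintro ⟨t, ht, rfl⟩
    refine hψJ.le ⟨⟨t, Subgroup.mem_sup_right ht⟩, ht, ?_⟩
    exact (hξe ⟨t, Subgroup.mem_sup_right ht⟩).symm
  · intro hy
    obtain ⟨t, ht, rfl⟩ := hψJ.ge hy
    exact ⟨⟨t, Subgroup.mem_sup_right ht⟩, ht, hξe t⟩

end CfsgLib.FusGenerate
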