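import Cfsg.Agent.WeakClosureJ.Factor
import Cfsg.Agent.Fus.Centric
import Cfsg.Agent.FusModel.Local
import Cfsg.Agent.Fusion.Alperin.Criteria
import Cfsg.Agent.Fusion.Alperin.Theorem
import Cfsg.Agent.Eq.Def_FusionSystem

/-!
A characteristic `p`-functor whose non-normality forces a quadratic element controls the `p`-th powers of
the centre of a Sylow subgroup, in groups and in saturated fusion systems.
-/

set_option autoImplicit false

open scoped commutatorElement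

namespace CfsgLib.FusGenerate

open Cfsg Cfsg.FusionSystem CfsgLib.Fus

universe u

variable {p : ℕ} (W : ∀ (Q : Type u) [Group Q], Subgroup Q)

/-- The value of the functor on a subgroup, inside the ambient group. -/
abbrev wOf {G : Type u} [Group G] (T : Subgroup G) : Subgroup G := (W T).map T.subtype

/-- `W` respects isomorphisms of finite `p`-groups. -/
def WNatural (p : ℕ) : Prop :=
  ∀ (Q R : Type u) [Group Q] [Group R] [Finite Q], IsPGroup p Q → ∀ φ : Q ≃* R,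
    (W Q).map φ.toMonoidHom = W R

variable {W}

theorem wOf_map (hW : WNatural W p) {G H : Type u} [Group G] [Group H] {T : Subgroup G} [Finite T]
    (hT : IsPGroup p T) (f : G →* H) (hf : Function.Injective f) :
    wOf W (T.map f) = (wOf W T).map f := by
  have h := hW T (T.map f : Subgroup H) hT (T.equivMapOfInjective f hf)
  rw [wOf, wOf, ← h, Subgroup.map_map, Subgroup.map_map]
  rfl

theorem le_normalizer_wOf (hW : WNatural W p) {G : Type u} [Group G] {T : Subgroup G} [Finite T]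
    (hT : IsPGroup p T) :
    Subgroup.normalizer (T : Set G) ≤ Subgroup.normalizer (wOf W T : Set G) := by
  intro g hg
  refine Subgroup.mem_normalizer_iff_map_conj_eq.2 ?_
  show (wOf W T).map (MulAut.conj g).toMonoidHom = wOf W T
  rw [← wOf_map hW hT _ (MulAut.conj g).injective]
  exact congrArg (fun T : Subgroup G => wOf W T) (Subgroup.mem_normalizer_iff_map_conj_eq.1 hg)

/-- The hypothesis on quadratic elements. -/
def WQuadratic (W : ∀ (Q : Type u) [Group Q], Subgroup Q) (p : ℕ) : Prop :=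
  ∀ (G : Type u) [Group G] [Finite G] (P : Sylow p G),
    ¬ (((W ↥(P : Subgroup G)).map (P : Subgroup G).subtype : Subgroup G)).Normal →
      ∃ g : G, g ∈ (P : Subgroup G) ∧ g ∉ Cfsg.pCore p G ∧
        ⁅⁅Subgroup.center ↥(Cfsg.pCore p G) |>.map (Cfsg.pCore p G).subtype, Subgroup.zpowers g⁆,
          Subgroup.zpowers g⁆ = ⊥

/-- In a finite group the normaliser of `W(R)` controls the `p`-th powers of the elements of `O_p` central
in the Sylow subgroup `R`. -/
theorem pow_central_of_functor [Fact p.Prime] (hW : WNatural W p) (hq : WQuadratic W p) (N : ℕ) :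
    ∀ (Y : Type u) [Group Y] [Finite Y], Nat.card Y = N → ∀ (R : Sylow p Y) (z : Y),
      z ∈ Cfsg.pCore p Y → (∀ r ∈ (R : Subgroup Y), r * z = z * r) →
      (∀ n ∈ Subgroup.normalizer (wOf W (R : Subgroup Y) : Set Y), n * z ^ p = z ^ p * n) →
      ∀ y : Y, y * z ^ p = z ^ p * y := by
  induction N using Nat.strong_induction_on with
  | _ N ih =>
  intro Y _ _ hY R z hzO hRz hN y
  by_cases hnor : (wOf W (R : Subgroup Y)).Normal
  · exact hN y (by rw [Subgroup.normalizer_eq_top]; trivial)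
  obtain ⟨g, hgR, hgO, hgq⟩ := hq Y R hnor
  set O := Cfsg.pCore p Y with hO
  have hOp : IsPGroup p O := CfsgLib.CharP.isPGroup_pCore
  haveI hOn : O.Normal := Cfsg.pCore_normal p Y
  have hOR : O ≤ (R : Subgroup Y) := CfsgLib.CharP.pCore_le_sylow R
  set A0 := O ⊓ Subgroup.centralizer (O : Set Y) with hA0
  haveI : A0.Normal := by rw [hA0]; infer_instance
  have hA0c : IsMulCommutative A0 :=
    ⟨⟨fun a b => Subtype.ext (Subgroup.mem_centralizer_iff.1 b.2.2 a a.2.1)⟩⟩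
  have hA0p : IsPGroup p A0 := hOp.to_le inf_le_left
  have hZA0 : ({z} : Set Y) ⊆ (A0 : Set Y) := by
    rintro _ rfl
    exact ⟨hzO, Subgroup.mem_centralizer_iff.2 fun t ht => hRz t (hOR ht)⟩
  have hRzs : ∀ w ∈ ({z} : Set Y), ∀ r ∈ (R : Subgroup Y), r * w = w * r := by
    rintro _ rfl
    exact hRz
  set Wn := Subgroup.normalClosure ({z} : Set Y) with hWn
  have hWnA : Wn ≤ A0 := Subgroup.normalClosure_le_normal hZA0
  have hquad : ∀ w ∈ Wn, g * (g * w * g⁻¹ * w⁻¹) * g⁻¹ = g * w * g⁻¹ * w⁻¹ := by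
    intro w hw
    have hwA := hWnA hw
    have hwc : w ∈ (Subgroup.center ↥O).map O.subtype :=
      ⟨⟨w, hwA.1⟩, Subgroup.mem_center_iff.2 fun t =>
        Subtype.ext (Subgroup.mem_centralizer_iff.1 hwA.2 t t.2), rfl⟩
    have h1 := Subgroup.commutator_mem_commutator
      (Subgroup.commutator_mem_commutator hwc (Subgroup.mem_zpowers g)) (Subgroup.mem_zpowers g)
    rw [hgq, Subgroup.mem_bot, commutatorElement_eq_one_iff_mul_comm] at h1
    have h2 : g * w * g⁻¹ * w⁻¹ = ⁅w, g⁆⁻¹ := by simp [commutatorElement_def, mul_assoc]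
    have h3 : Commute g ⁅w, g⁆⁻¹ := (Commute.inv_right h1.symm)
    rw [h2, h3.eq, mul_inv_cancel_right]
  have hpow := WeakClosureJ.quadratic_commute_pow R {z} hRzs hA0c hA0p hZA0 hquad
  set K := Subgroup.centralizer {t : Y | ∃ w ∈ Wn, t = w ^ p} with hK
  have hWnn : Wn.Normal := Subgroup.normalClosure_normal
  haveI : K.Normal := by
    refine ⟨fun t ht c => Subgroup.mem_centralizer_iff.2 ?_⟩
    rintro _ ⟨w, hw, rfl⟩
    have hw' : c⁻¹ * w ^ p * c ∈ {t : Y | ∃ w ∈ Wn, t = w ^ p} :=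
      ⟨c⁻¹ * w * c, by simpa using hWnn.conj_mem w hw c⁻¹,
        by rw [show c⁻¹ * w * c = c⁻¹ * w * c⁻¹⁻¹ by rw [inv_inv], conj_pow, inv_inv]⟩
    have h1 := Subgroup.mem_centralizer_iff.1 ht _ hw'
    calc w ^ p * (c * t * c⁻¹) = c * ((c⁻¹ * w ^ p * c) * t) * c⁻¹ := by group
      _ = c * (t * (c⁻¹ * w ^ p * c)) * c⁻¹ := by rw [h1]
      _ = c * t * c⁻¹ * w ^ p := by group
  have hgK : g ∈ K := by
    refine Subgroup.mem_centralizer_iff.2 ?_
    rintro _ ⟨w, hw, rfl⟩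
    exact (hpow w hw).symm
  set D := (R : Subgroup Y) ⊓ K with hD
  set Y1 := Subgroup.normalizer (D : Set Y) with hY1
  have hRY1 : (R : Subgroup Y) ≤ Y1 := by
    intro r hr
    refine WeakClosureJ.mem_normalizer_of_cj_le ?_
    rintro _ ⟨t, ht, rfl⟩
    exact ⟨Subgroup.mul_mem _ (Subgroup.mul_mem _ hr ht.1) (Subgroup.inv_mem _ hr),
      (inferInstance : K.Normal).conj_mem t ht.2 r⟩
  have hne : Y1 ≠ ⊤ := fun h => hgO (CfsgLib.Constrained.le_pCore
    (Subgroup.normalizer_eq_top_iff.1 h) (R.2.to_le inf_le_left) ⟨hgR, hgK⟩)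
  have hlt : Nat.card Y1 < N := by
    rw [← hY]
    exact lt_of_le_of_ne (Subgroup.card_le_card_group Y1) fun h => hne (Subgroup.eq_top_of_card_eq Y1 h)
  have hzY1 : z ∈ Y1 := hRY1 (hOR hzO)
  have hR1 : (((R.subtype hRY1 : Sylow p Y1) : Subgroup Y1)).map Y1.subtype = (R : Subgroup Y) :=
    Subgroup.map_subgroupOf_eq_of_le hRY1
  have hWR : wOf W (R : Subgroup Y) =
      (wOf W ((R.subtype hRY1 : Sylow p Y1) : Subgroup Y1)).map Y1.subtype := by
    rw [← wOf_map hW (R.subtype hRY1).2 _ Y1.subtype_injective]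
    exact congrArg (fun T : Subgroup Y => wOf W T) hR1.symm
  have hY1c : ∀ n ∈ Y1, n * z ^ p = z ^ p * n := by
    intro n hn
    have key := ih _ hlt Y1 rfl (R.subtype hRY1) ⟨z, hzY1⟩
      (CfsgLib.Constrained.le_pCore (inferInstance : (O.subgroupOf Y1).Normal)
        (hOp.comap_of_injective _ Y1.subtype_injective) hzO)
      (fun r hr => Subtype.ext (hRz r hr))
      (fun c hc => Subtype.ext (hN c (by
        rw [hWR]
        exact Subgroup.le_normalizer_map Y1.subtype ⟨c, hc, rfl⟩)))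
      ⟨n, hn⟩
    exact congrArg Subtype.val key
  obtain ⟨n, hn, c, hc, rfl⟩ := CfsgLib.GlaubermanZJ.exists_frattini R K y
  have hcz : Commute c (z ^ p) := (Subgroup.mem_centralizer_iff.1 hc _
    ⟨z, Subgroup.subset_normalClosure rfl, rfl⟩).symm
  exact (Commute.mul_left (hY1c n hn) hcz).eq

variable {Ω : Type u} [Group Ω] {S : Subgroup Ω} [Finite S] [Fact p.Prime]

/-- A functor whose normaliser centralises `x` in every local model makes `x` central. -/
theorem isCentral_zpowers_of_control (hW : WNatural W p)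
    (hWZ : ∀ (Q : Type u) [Group Q] [Finite Q], IsPGroup p Q → Subgroup.center Q ≤ W Q)
    (hS : IsPGroup p S) {F : Cfsg.FusionSystem S} (hF : F.IsSaturated p)
    {U : Subgroup Ω} (hU : U = wOf W S)
    {N : Cfsg.FusionSystem (normalizerIn S U)} (hN : F.IsNormalizerSystem U N)
    {x : Ω} (hxZ : x ∈ S ⊓ Subgroup.centralizer (S : Set Ω)) (hxN : x ∈ N.center)
    (hctrl : ∀ (T : Subgroup Ω) (hT : F.IsFullyNormalized T), F.IsCentric T →
      ∀ (L : Type u) [Group L] [Finite L] (ι : normalizerIn S T →* L),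
        (normalizerSystem F T hT.1).IsModel p L ι → ∀ P0 : Sylow p L, (P0 : Subgroup L) = ι.range →
          (∀ t : normalizerIn S T, (t : Ω) ∈ T → ι t ∈ Cfsg.pCore p L) →
          ∀ hx : x ∈ normalizerIn S T,
            (∀ n ∈ Subgroup.normalizer (wOf W (P0 : Subgroup L) : Set L),
              n * ι ⟨x, hx⟩ = ι ⟨x, hx⟩ * n) → ∀ l : L, l * ι ⟨x, hx⟩ = ι ⟨x, hx⟩ * l) :
    F.IsCentral (Subgroup.zpowers x) := by
  classical
  subst hU
  have hxS : x ∈ S := hxZ.1
  have hxc : ∀ s ∈ S, s * x = x * s := hxZ.2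
  have hxnorm : ∀ {T : Subgroup Ω}, T ≤ S → x ∈ normalizerIn S T := fun hT =>
    centralizerIn_le_normalizerIn _ ⟨hxS, fun t ht => hxc t (hT ht)⟩
  have hSU : S ≤ normalizerIn S (wOf W S) := fun g hg =>
    ⟨hg, le_normalizer_wOf hW hS (Subgroup.le_normalizer hg)⟩
  have hUS : wOf W S ≤ S := Subgroup.map_subtype_le _
  have hcenU : ∀ {T : Subgroup Ω}, T ≤ S → ∀ y ∈ T, (∀ t ∈ T, t * y = y * t) → y ∈ wOf W T := by
    intro T hT y hy hc
    haveI := finite_of_le hT
    exact ⟨⟨y, hy⟩, hWZ T (hS.to_le hT) (Subgroup.mem_center_iff.2 fun t => Subtype.ext (hc t t.2)), rfl⟩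
  -- maps in `N` of `W(S)` fix `x`
  have htop : ∀ {β : (wOf W S : Subgroup Ω) →* Ω} (_ : β ∈ F.Hom (wOf W S)) (_ : β.range = wOf W S)
      (hxU : x ∈ wOf W S), β ⟨x, hxU⟩ = x := by
    intro β hβ hβr hxU
    have hβN : β ∈ N.Hom (wOf W S) := by
      rw [hN]
      refine ⟨hβ, hUS.trans hSU, fun y => hSU (hom_mem F hβ y),
        β.comp (Subgroup.inclusion (sup_le le_rfl le_rfl)), restrict_mem F hβ _, fun y => rfl, ?_⟩
      refine Eq.trans ?_ hβr
      ext y
      constructor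
      · rintro ⟨t, -, rfl⟩
        exact ⟨_, rfl⟩
      · rintro ⟨t, rfl⟩
        exact ⟨⟨t, Subgroup.mem_sup_left t.2⟩, t.2, rfl⟩
    have hle : N.center ≤ (MonoidHom.eqLocus β (wOf W S : Subgroup Ω).subtype).map
        (wOf W S : Subgroup Ω).subtype := by
      refine sSup_le fun Q0 hQ0 y hy => ?_
      have hyS : y ∈ S := (hQ0.1 hy).1
      have hyc : ∀ t ∈ S, t * y = y * t := by
        intro t ht
        obtain ⟨ψ, -, hψe, hψQ⟩ := hQ0.2 _ _ (N.conj_mem le_rfl (hSU ht))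
        have h1 : t * y * t⁻¹ = y := (hψe ⟨y, hQ0.1 hy⟩).symm.trans (hψQ ⟨y, hy⟩)
        exact mul_inv_eq_iff_eq_mul.1 h1
      have hyU := hcenU le_rfl y hyS hyc
      obtain ⟨ψ, -, hψe, hψQ⟩ := hQ0.2 _ _ hβN
      exact ⟨⟨y, hyU⟩, (hψe ⟨y, hyU⟩).symm.trans (hψQ ⟨y, hy⟩), rfl⟩
    obtain ⟨t, ht, htx⟩ := hle hxN
    have e : t = ⟨x, hxU⟩ := Subtype.ext htx
    subst e
    exact ht
  -- automorphisms fix `x`, by induction on the normaliser
  suffices haut : ∀ d : ℕ, ∀ Q : Subgroup Ω, Q ≤ S → Nat.card S - Nat.card (normalizerIn S Q) = d →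
      ∀ hxQ : x ∈ Q, ∀ φ : Q →* Ω, φ ∈ F.Hom Q → φ.range = Q → φ ⟨x, hxQ⟩ = x by
    refine Fusion.Alperin.isCentral_criterion hS hF (by simpa using hxS) (fun R hR => ?_) ?_
    · rw [Subgroup.zpowers_le]
      exact centralizerIn_le_of_centric hR.centric ⟨hxS, fun t ht => hxc t (hR.centric.1 ht)⟩
    · intro R hR α hα y hy
      have hxR : x ∈ R := centralizerIn_le_of_centric hR.centric ⟨hxS, fun t ht => hxc t (hR.centric.1 ht)⟩
      have h1 := haut _ R hR.centric.1 rfl hxR _ ((mem_autGroup_iff F hR.centric.1).1 hα)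
        (range_subtype_comp α)
      obtain ⟨k, hk⟩ := hy
      have hy' : y = (⟨x, hxR⟩ : R) ^ k := Subtype.ext (by rw [← hk]; rfl)
      have h2 : α ⟨x, hxR⟩ = ⟨x, hxR⟩ := Subtype.ext h1
      rw [hy', map_zpow, h2]
  intro d
  induction d using Nat.strong_induction_on with
  | _ d ih =>
  intro Q hQ hd hxQ φ hφ hφr
  set m := Nat.card (normalizerIn S Q) with hm
  have hle : ∀ T : Subgroup Ω, Nat.card (normalizerIn S T) ≤ Nat.card S := fun T =>
    Subgroup.card_le_of_le (normalizerIn_le T)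
  have hIH : ∀ T : Subgroup Ω, T ≤ S → m < Nat.card (normalizerIn S T) →
      ∀ hxT : x ∈ T, ∀ φ : T →* Ω, φ ∈ F.Hom T → φ.range = T → φ ⟨x, hxT⟩ = x := by
    intro T hT hlt
    have := hle T
    have := hle Q
    exact ih _ (by omega) T hT rfl
  -- maps with large sources fix `x`
  have hbig : ∀ k : ℕ, ∀ P : Subgroup Ω, P ≤ S → Nat.card S - Nat.card P = k → m ≤ Nat.card P →
      ∀ hxP : x ∈ P, ∀ φ : P →* Ω, φ ∈ F.Hom P → φ ⟨x, hxP⟩ = x := by
    intro k
    induction k using Nat.strong_induction_on with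
    | _ k ihk =>
    intro P hPS hk hmP hxP φ hφ
    by_cases htopP : P = S
    · subst htopP
      have hr : φ.range = P :=
        Subgroup.eq_of_le_of_card_ge (range_le F hφ) (isConj_card (isConj_of_hom F hφ)).le
      have hxU : x ∈ wOf W P := hcenU le_rfl x hxP hxc
      refine htop (β := φ.comp (Subgroup.inclusion hUS)) (restrict_mem F hφ hUS) ?_ hxU
      have e1 : (⊤ : Subgroup P).map φ = P := by rw [← MonoidHom.range_eq_map, hr]
      have e2 : (⊤ : Subgroup P).map P.subtype = P := by rw [← MonoidHom.range_eq_map, P.range_subtype]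
      have h1 := wOf_map hW (T := (⊤ : Subgroup P)) (hS.to_subgroup ⊤) φ (F.injective_of_mem hφ)
      have h2 := wOf_map hW (T := (⊤ : Subgroup P)) (hS.to_subgroup ⊤) P.subtype P.subtype_injective
      rw [show wOf W ((⊤ : Subgroup P).map φ) = wOf W P from congrArg (fun T : Subgroup Ω => wOf W T) e1] at h1
      rw [show wOf W ((⊤ : Subgroup P).map P.subtype) = wOf W P from
        congrArg (fun T : Subgroup Ω => wOf W T) e2] at h2
      ext y
      constructor
      · rintro ⟨t, rfl⟩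
        obtain ⟨w, hw, hwt⟩ := h2.le t.2
        have e : w = Subgroup.inclusion hUS t := Subtype.ext hwt
        exact h1.ge ⟨w, hw, by rw [e]; rfl⟩
      · intro hy
        obtain ⟨w, hw, rfl⟩ := h1.le hy
        exact ⟨⟨w, h2.ge ⟨w, hw, rfl⟩⟩, rfl⟩
    obtain ⟨Q1, hPQ1, hQ1⟩ := exists_fullyNormalized F hPS
    have hnormbig : ∀ {T : Subgroup Ω}, T ≤ S → Nat.card P = Nat.card T →
        Nat.card P < Nat.card (normalizerIn S T) := by
      intro T hT hcard
      have hne : T ≠ S := fun h => htopP (Subgroup.eq_of_le_of_card_ge hPS (by rw [hcard, h]))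
      obtain ⟨g, hg, hgT⟩ := Fusion.Alperin.exists_normalizing_not_mem hS hT hne
      exact hcard ▸ Fusion.Alperin.card_lt_of_le_of_mem (normalizerIn_le T) (le_normalizerIn hT) hg hgT
    have hψfix : ∀ {T : Subgroup Ω} (hT : T ≤ S), Nat.card P = Nat.card T →
        ∀ ψ ∈ F.Hom (normalizerIn S T), ψ ⟨x, hxnorm hT⟩ = x := by
      intro T hT hcard ψ hψ
      have h1 := hnormbig hT hcard
      have h2 := hle T
      exact ihk _ (by omega) _ (normalizerIn_le T) rfl (by omega) _ ψ hψ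
    obtain ⟨χ, hχ, hχr, ψ, hψ, hψe⟩ := exists_normalizer_map_fn hS hF hQ1 hPQ1
    have hφr' : φ.range ≤ S := range_le F hφ
    have hcardr : Nat.card P = Nat.card φ.range := isConj_card (isConj_of_hom F hφ)
    obtain ⟨χ', hχ', hχ'r, ψ', hψ', hψ'e⟩ :=
      exists_normalizer_map_fn hS hF hQ1 (isConj_trans (isConj_symm (isConj_of_hom F hφ)) hPQ1)
    obtain ⟨χi, hχi, hχir, hχiχ, -⟩ := exists_inv F hχ hχr
    have h1 : ∀ y, χi y ∈ P := fun y => hχir.le ⟨y, rfl⟩
    obtain ⟨α, hαdef⟩ : ∃ α : Q1 →* Ω, α =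
        χ'.comp ((φ.comp (χi.codRestrict P h1)).codRestrict φ.range fun y => ⟨_, rfl⟩) := ⟨_, rfl⟩
    have hαF : α ∈ F.Hom Q1 := hαdef ▸ F.comp_mem (F.comp_mem hχi hφ h1) hχ' _
    have hαr : α.range = Q1 := by
      haveI : Finite Q1 := finite_of_le hQ1.1
      refine Subgroup.eq_of_le_of_card_ge ?_ (isConj_card (isConj_of_hom F hαF)).le
      rintro _ ⟨y, rfl⟩
      rw [hαdef]
      exact hχ'r.le ⟨_, rfl⟩
    have hχx : χ ⟨x, hxP⟩ = x :=
      (hψe ⟨x, hxP⟩ (hxnorm hPS)).symm.trans (hψfix hPS rfl ψ hψ)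
    have hxQ1 : x ∈ Q1 := hχx ▸ hχr.le ⟨⟨x, hxP⟩, rfl⟩
    have hlt : m < Nat.card (normalizerIn S Q1) :=
      lt_of_le_of_lt hmP (hnormbig hQ1.1 (isConj_card hPQ1))
    have hαx := hIH Q1 hQ1.1 hlt hxQ1 α hαF hαr
    have e1 : χi ⟨x, hxQ1⟩ = x :=
      (congrArg χi (Subtype.ext hχx.symm)).trans (hχiχ ⟨x, hxP⟩ (hχr.le ⟨_, rfl⟩))
    have e2 : χ' ⟨φ ⟨x, hxP⟩, ⟨_, rfl⟩⟩ = x := by
      refine Eq.trans ?_ hαx
      refine Eq.trans ?_ (DFunLike.congr_fun hαdef _).symm
      show χ' ⟨φ ⟨x, hxP⟩, _⟩ = χ' ⟨φ ⟨χi ⟨x, hxQ1⟩, _⟩, _⟩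
      exact congrArg χ' (Subtype.ext (congrArg φ (Subtype.ext e1.symm)))
    rw [← hψ'e ⟨φ ⟨x, hxP⟩, ⟨_, rfl⟩⟩ (le_normalizerIn hφr' ⟨_, rfl⟩)] at e2
    exact congrArg Subtype.val (F.injective_of_mem hψ' (e2.trans (hψfix hφr' hcardr ψ' hψ').symm))
  -- transport to a fully normalised conjugate
  have move : ∀ {T : Subgroup Ω} (hT : T ≤ S), Nat.card (normalizerIn S T) = m → ∀ hxT : x ∈ T,
      ∀ θ : T →* Ω, θ ∈ F.Hom T → θ.range = T →
      (∀ T' : Subgroup Ω, F.IsFullyNormalized T' → F.IsConj T T' → Nat.card (normalizerIn S T') = m →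
        ∀ hxT' : x ∈ T', ∀ θ' : T' →* Ω, θ' ∈ F.Hom T' → θ'.range = T' → θ' ⟨x, hxT'⟩ = x) →
      θ ⟨x, hxT⟩ = x := by
    intro T hT hTm hxT θ hθ hθr hfn
    obtain ⟨T', hTT', hT'⟩ := exists_fullyNormalized F hT
    obtain ⟨χ, hχ, hχr, ψ, hψ, hψe⟩ := exists_normalizer_map_fn hS hF hT' hTT'
    have hψx : ψ ⟨x, hxnorm hT⟩ = x :=
      hbig _ _ (normalizerIn_le T) rfl hTm.ge _ ψ hψ
    have hχx : χ ⟨x, hxT⟩ = x := (hψe ⟨x, hxT⟩ (hxnorm hT)).symm.trans hψx
    have hxT' : x ∈ T' := hχx ▸ hχr.le ⟨⟨x, hxT⟩, rfl⟩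
    obtain ⟨χi, hχi, hχir, hχiχ, -⟩ := exists_inv F hχ hχr
    have h1 : ∀ y, χi y ∈ T := fun y => hχir.le ⟨y, rfl⟩
    obtain ⟨α, hαdef⟩ : ∃ α : T' →* Ω, α =
        χ.comp ((θ.comp (χi.codRestrict T h1)).codRestrict T fun y => hθr.le ⟨_, rfl⟩) := ⟨_, rfl⟩
    have hαF : α ∈ F.Hom T' := hαdef ▸ F.comp_mem (F.comp_mem hχi hθ h1) hχ _
    have hαr : α.range = T' := by
      haveI : Finite T' := finite_of_le hT'.1
      refine Subgroup.eq_of_le_of_card_ge ?_ (isConj_card (isConj_of_hom F hαF)).le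
      rintro _ ⟨y, rfl⟩
      rw [hαdef]
      exact hχr.le ⟨_, rfl⟩
    have hge : m ≤ Nat.card (normalizerIn S T') := hTm ▸ hT'.2 T (isConj_symm hTT')
    have hαx : α ⟨x, hxT'⟩ = x := by
      rcases eq_or_lt_of_le hge with he | hlt
      · exact hfn T' hT' hTT' he.symm hxT' α hαF hαr
      · exact hIH T' hT'.1 hlt hxT' α hαF hαr
    have e1 : χi ⟨x, hxT'⟩ = x :=
      (congrArg χi (Subtype.ext hχx.symm)).trans (hχiχ ⟨x, hxT⟩ (hχr.le ⟨_, rfl⟩))
    have e2 : χ ⟨θ ⟨x, hxT⟩, hθr.le ⟨_, rfl⟩⟩ = χ ⟨x, hxT⟩ := by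
      rw [hχx]
      refine Eq.trans ?_ hαx
      refine Eq.trans ?_ (DFunLike.congr_fun hαdef _).symm
      show χ ⟨θ ⟨x, hxT⟩, _⟩ = χ ⟨θ ⟨χi ⟨x, hxT'⟩, _⟩, _⟩
      exact congrArg χ (Subtype.ext (congrArg θ (Subtype.ext e1.symm)))
    exact congrArg Subtype.val (F.injective_of_mem hχ e2)
  refine move hQ rfl hxQ φ hφ hφr fun Q1 hQ1 _ hQ1m hxQ1 θ hθ hθr => ?_
  -- extend to the centraliser
  set R := Q1 ⊔ centralizerIn S Q1 with hR
  have hRS : R ≤ S := sup_le hQ1.1 (centralizerIn_le Q1)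
  have hRext : R ≤ Cfsg.FusionSystem.extender S Q1 θ :=
    sup_le (le_extender F hθ) centralizerIn_le_extender
  obtain ⟨ψ, hψ, hψe⟩ := exists_ext (fullyNormalized_props hS hF hQ1).2 hθ hθr le_sup_left hRext
  have hψr : ψ.range = R := by
    haveI : Finite R := finite_of_le hRS
    refine Subgroup.eq_of_le_of_card_ge ?_ (isConj_card (isConj_of_hom F hψ)).le
    rintro _ ⟨y, rfl⟩
    refine map_mem_sup ψ (fun t => ?_) (fun t => ?_) y
    · rw [show Subgroup.inclusion le_sup_left t = Subgroup.inclusion (le_sup_left : Q1 ≤ R) t from rfl,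
        hψe]
      exact hθr.le ⟨_, rfl⟩
    · exact map_mem_centralizerIn hθr hψ le_sup_left hψe t.2.2
  have hQR : normalizerIn S Q1 ≤ normalizerIn S R := by
    intro g hg
    refine ⟨hg.1, Subgroup.mem_normalizer_iff_map_conj_eq.2 ?_⟩
    have key : ∀ g ∈ normalizerIn S Q1, ∀ c ∈ centralizerIn S Q1, g * c * g⁻¹ ∈ centralizerIn S Q1 := by
      intro g hg c hc
      refine ⟨S.mul_mem (S.mul_mem hg.1 hc.1) (S.inv_mem hg.1), fun y hy => ?_⟩
      have h2 := hc.2 _ ((Subgroup.mem_normalizer_iff''.1 hg.2 y).1 hy)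
      calc y * (g * c * g⁻¹) = g * ((g⁻¹ * y * g) * c) * g⁻¹ := by group
        _ = g * (c * (g⁻¹ * y * g)) * g⁻¹ := by rw [h2]
        _ = g * c * g⁻¹ * y := by group
    show R.map (MulAut.conj g).toMonoidHom = R
    rw [hR, Subgroup.map_sup]
    congr 1
    · exact Subgroup.mem_normalizer_iff_map_conj_eq.1 hg.2
    · ext y
      constructor
      · rintro ⟨c, hc, rfl⟩
        exact key g hg c hc
      · intro hy
        exact ⟨g⁻¹ * y * g, by simpa using key g⁻¹ (inv_mem hg) y hy, by simp [mul_assoc]⟩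
  have hxR : x ∈ R := Subgroup.mem_sup_left hxQ1
  suffices hψx : ψ ⟨x, hxR⟩ = x by
    exact ((hψe ⟨x, hxQ1⟩).symm.trans hψx : _)
  haveI : Finite (normalizerIn S R) := finite_of_le (normalizerIn_le R)
  rcases eq_or_lt_of_le (hQ1m ▸ Subgroup.card_le_of_le hQR) with hRm | hlt
  swap
  · exact hIH R hRS hlt hxR ψ hψ hψr
  refine move hRS hRm.symm hxR ψ hψ hψr fun T hT hRT hTm hxT α hα hαr => ?_
  -- the centric case
  have hCR : centralizerIn S R ≤ R := (centralizerIn_antitone le_sup_left).trans le_sup_right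
  have hTc : F.IsCentric T := by
    refine isCentric_of_fullyCentralized (fullyCentralized_of_fullyNormalized hS hF hT) ?_
    obtain ⟨χ, hχ, hχr, ξ, hξ, hξe⟩ := exists_normalizer_map_fn hS hF hT hRT
    have hRN := le_normalizerIn (S := S) hRS
    intro c hc
    haveI : Finite (normalizerIn S T) := finite_of_le (normalizerIn_le T)
    obtain ⟨g, -, hg⟩ := exists_preimage_of_card (F.injective_of_mem hξ) le_rfl
      (fun g hg => map_mem_normalizerIn hχr hξ hRN (fun y => hξe y _) hg.2)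
      (by rw [hTm, ← hRm]) (centralizerIn_le_normalizerIn T hc)
    have hgR : (g : Ω) ∈ R := by
      refine hCR ⟨g.2.1, fun y hy => ?_⟩
      have h1 := hc.2 (χ ⟨y, hy⟩) (hχr.le ⟨_, rfl⟩)
      rw [← hg, ← hξe ⟨y, hy⟩ (hRN hy), ← map_mul, ← map_mul] at h1
      exact congrArg Subtype.val (F.injective_of_mem hξ h1)
    rw [← hg, show ξ g = χ ⟨g, hgR⟩ from hξe ⟨g, hgR⟩ g.2]
    exact hχr.le ⟨_, rfl⟩
  set NT := normalizerIn S T with hNT
  obtain ⟨L, _, ι, hmodel⟩ : ∃ (L : Type u) (_ : Group L) (ι : NT →* L),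
      (normalizerSystem F T hT.1).IsModel p L ι := CfsgLib.FusModel.exists_local_model hS hF hT hTc
  have hTn := CfsgLib.FusModel.normal_image_of_model hmodel
    (CfsgLib.FusModel.isNormal_normalizer hT.1 fun _ => rfl)
  obtain ⟨hfin, ⟨hinj, hreal⟩, ⟨P0, hP0⟩, -⟩ := id hmodel
  haveI := hfin
  have hTNT : T ≤ NT := le_normalizerIn hT.1
  haveI : Finite NT := finite_of_le (normalizerIn_le T)
  have hNTp : IsPGroup p NT := hS.to_le (normalizerIn_le T)
  have hcen := hctrl T hT hTc L ι hmodel P0 hP0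
    (fun t ht => CfsgLib.Constrained.le_pCore hTn ((hNTp.to_subgroup _).map ι) ⟨t, ht, rfl⟩)
    (hTNT hxT)
    (fun n hn => by
      -- `n` induces an automorphism of `U = W(N_S(T))`
      set U0 := wOf W (⊤ : Subgroup NT) with hU0
      have eU : U0.map ι = wOf W (P0 : Subgroup L) := by
        rw [hU0, ← wOf_map hW (hNTp.to_subgroup ⊤) ι hinj]
        exact congrArg (fun T : Subgroup L => wOf W T) (by rw [← MonoidHom.range_eq_map, hP0])
      have eU' : U0.map NT.subtype = wOf W NT := by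
        rw [hU0, ← wOf_map hW (hNTp.to_subgroup ⊤) NT.subtype NT.subtype_injective]
        exact congrArg (fun T : Subgroup Ω => wOf W T) (by rw [← MonoidHom.range_eq_map, NT.range_subtype])
      set U := wOf W NT with hU
      have hUN : U ≤ NT := Subgroup.map_subtype_le _
      have hUS' : U ≤ S := hUN.trans (normalizerIn_le T)
      have hmemU : ∀ u : U, Subgroup.inclusion hUN u ∈ U0 := by
        intro u
        obtain ⟨t, ht, hte⟩ := eU'.ge u.2
        have e : t = Subgroup.inclusion hUN u := Subtype.ext hte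
        exact e ▸ ht
      have hnU : ∀ u : U, ∃ t ∈ U0, ι t = n * ι (Subgroup.inclusion hUN u) * n⁻¹ := by
        intro u
        have h1 := (Subgroup.mem_normalizer_iff.1 hn _).1 (eU ▸ ⟨_, hmemU u, rfl⟩ :
          ι (Subgroup.inclusion hUN u) ∈ wOf W (P0 : Subgroup L))
        exact eU.ge h1
      have hlJ : ∀ u : U, n * ι (Subgroup.inclusion hUN u) * n⁻¹ ∈ ι.range := fun u =>
        let ⟨t, _, ht⟩ := hnU u
        ⟨t, ht⟩
      obtain ⟨β, hβ⟩ : ∃ β : U →* NT, ∀ u, ι (β u) = n * ι (Subgroup.inclusion hUN u) * n⁻¹ :=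
        ⟨(MonoidHom.ofInjective hinj).symm.toMonoidHom.comp
          (((MulAut.conj n).toMonoidHom.comp (ι.comp (Subgroup.inclusion hUN))).codRestrict ι.range hlJ),
          fun u => by
            show ι ((MonoidHom.ofInjective hinj).symm ⟨_, hlJ u⟩) = _
            rw [MonoidHom.apply_ofInjective_symm]⟩
      have hβF : NT.subtype.comp β ∈ F.Hom U :=
        ((hreal U hUN _ fun u => (β u).2).2 ⟨n, fun u => hβ u⟩).1
      have hβr : (NT.subtype.comp β).range = U := by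
        haveI : Finite U := finite_of_le hUS'
        refine Subgroup.eq_of_le_of_card_ge ?_ (isConj_card (isConj_of_hom F hβF)).le
        rintro _ ⟨u, rfl⟩
        obtain ⟨t, ht, hte⟩ := hnU u
        rw [← hβ u] at hte
        exact eU'.le ⟨t, ht, congrArg Subtype.val (hinj hte)⟩
      have hxU : x ∈ U := hcenU (normalizerIn_le T) x (hTNT hxT) fun t ht => hxc t ht.1
      have hβx : NT.subtype.comp β ⟨x, hxU⟩ = x := by
        by_cases hNS : NT = S
        · have key : ∀ T' : Subgroup Ω, T' = S → ∀ γ : (wOf W T' : Subgroup Ω) →* Ω,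
              γ ∈ F.Hom (wOf W T') → γ.range = wOf W T' → ∀ hxT'' : x ∈ wOf W T', γ ⟨x, hxT''⟩ = x := by
            rintro T' rfl γ hγ hγr hxT''
            exact htop hγ hγr hxT''
          exact key NT hNS _ hβF hβr hxU
        · obtain ⟨g, hg, hgN⟩ := Fusion.Alperin.exists_normalizing_not_mem hS (normalizerIn_le T) hNS
          refine hIH U hUS' ?_ hxU _ hβF hβr
          refine lt_of_lt_of_le (hTm ▸ Fusion.Alperin.card_lt_of_le_of_mem (normalizerIn_le NT)
            (le_normalizerIn (normalizerIn_le T)) hg hgN) ?_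
          haveI : Finite (normalizerIn S U) := finite_of_le (normalizerIn_le U)
          exact Subgroup.card_le_of_le fun y hy => ⟨hy.1, le_normalizer_wOf hW hNTp hy.2⟩
      have h2 := hβ ⟨x, hxU⟩
      have h3 : β ⟨x, hxU⟩ = ⟨x, hTNT hxT⟩ := Subtype.ext hβx
      have h4 : Subgroup.inclusion hUN ⟨x, hxU⟩ = ⟨x, hTNT hxT⟩ := Subtype.ext rfl
      rw [h3, h4] at h2
      calc n * ι ⟨x, hTNT hxT⟩ = n * ι ⟨x, hTNT hxT⟩ * n⁻¹ * n := by group
        _ = ι ⟨x, hTNT hxT⟩ * n := by rw [← h2])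
  have hαN : α ∈ (normalizerSystem F T hT.1).Hom T := by
    refine ⟨hα, hTNT, fun y => hTNT (hαr.le ⟨y, rfl⟩), α.comp (Subgroup.inclusion (sup_le le_rfl le_rfl)),
      restrict_mem F hα _, fun y => rfl, ?_⟩
    refine Eq.trans ?_ hαr
    ext y
    constructor
    · rintro ⟨t, -, rfl⟩
      exact ⟨_, rfl⟩
    · rintro ⟨t, rfl⟩
      exact ⟨⟨t, Subgroup.mem_sup_left t.2⟩, t.2, rfl⟩
  obtain ⟨l, hl⟩ := (hreal T hTNT α fun y => hTNT (hαr.le ⟨y, rfl⟩)).1 hαN
  have h6 := hl ⟨x, hxT⟩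
  have h7 : l * ι ⟨x, hTNT hxT⟩ * l⁻¹ = ι ⟨x, hTNT hxT⟩ := by
    rw [hcen l, mul_inv_cancel_right]
  exact congrArg Subtype.val (hinj (h6.trans h7))

/-- The statement for functors with quadratic elements. -/
theorem isCentral_zpowers_pow (hW : WNatural W p) (hq : WQuadratic W p)
    (hWZ : ∀ (Q : Type u) [Group Q] [Finite Q], IsPGroup p Q → Subgroup.center Q ≤ W Q)
    (hS : IsPGroup p S) {F : Cfsg.FusionSystem S} (hF : F.IsSaturated p)
    {N : Cfsg.FusionSystem (normalizerIn S (wOf W S))} (hN : F.IsNormalizerSystem (wOf W S) N)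
    {z : Ω} (hz : z ∈ S ⊓ Subgroup.centralizer (S : Set Ω)) (hzN : z ^ p ∈ N.center) :
    F.IsCentral (Subgroup.zpowers (z ^ p)) := by
  refine isCentral_zpowers_of_control hW hWZ hS hF rfl hN (pow_mem hz p) hzN
    fun T hT hTc L _ _ ι _ P0 hP0 hOp hx hn l => ?_
  have hzT : z ∈ T := centralizerIn_le_of_centric hTc ⟨hz.1, fun t ht => hz.2 t (hT.1 ht)⟩
  have e : ι ⟨z ^ p, hx⟩ = ι ⟨z, le_normalizerIn hT.1 hzT⟩ ^ p := by
    rw [← map_pow]; exact congrArg ι (Subtype.ext rfl)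
  rw [e] at hn ⊢
  refine pow_central_of_functor hW hq _ L rfl P0 _ (hOp _ hzT) (fun r hr => ?_) hn l
  rw [hP0] at hr
  obtain ⟨w, rfl⟩ := hr
  rw [← map_mul, ← map_mul]
  exact congrArg ι (Subtype.ext (hz.2 w w.2.1))

end CfsgLib.FusGenerate
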